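/-
Counting lemma for the exceptional case of the Shult-Gross theorem: an alternating sign form on a
finite group and an isometry of odd prime order without fixed points modulo the radical.
-/
import Mathlib

set_option autoImplicit false
set_option linter.style.haveILetI false

namespace CfsgLib.ShultGross

variable {Q : Type*} [Group Q] [Finite Q]

theorem dvd_card_of_no_fixed {X : Type*} [Finite X] {p : ℕ} [Fact p.Prime] (σ : Equiv.Perm X)
    (hσ : ∀ x, (σ ^ p) x = x) (h : ∀ x, σ x ≠ x) : p ∣ Nat.card X := by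
  classical
  haveI := Fintype.ofFinite X
  rw [Nat.card_eq_fintype_card]
  by_contra hn
  obtain ⟨a, ha⟩ := Equiv.Perm.exists_fixed_point_of_prime (p := p) (n := 1) hn (σ := σ)
    (by rw [pow_one]; exact Equiv.ext hσ)
  exact h a ha

/-- The number of `g` with `χ g (T g) = -1`. -/
theorem count_neg {S : Subgroup Q} {T : MulAut Q} {χ : Q → Q → ℤ} {p m : ℕ} [Fact p.Prime]
    (hp2 : p ≠ 2) (hsq : ∀ a b, χ a b * χ a b = 1)
    (hl : ∀ a b c, χ (a * b) c = χ a c * χ b c) (hr : ∀ a b c, χ a (b * c) = χ a b * χ a c)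
    (halt : ∀ a, χ a a = 1) (hrad : ∀ a, (∀ b, χ a b = 1) ↔ a ∈ S)
    (hinv : ∀ a b, χ (T a) (T b) = χ a b) (hT : T ^ p = 1)
    (hfree : ∀ a, a⁻¹ * T a ∈ S → a ∈ S) (hpS0 : ¬ p ∣ Nat.card S) (hidx : S.index = 2 ^ (2 * m)) (hpm : p ∣ 2 ^ m + 1) :
    2 * Nat.card {g : Q // χ g (T g) = -1} = (2 ^ (2 * m) + 2 ^ m) * Nat.card S := by
  classical
  have hp : p.Prime := Fact.out
  haveI := Fintype.ofFinite Q
  have hsymm : ∀ a b, χ b a = χ a b := by
    intro a b
    have h1 := halt (a * b)
    rw [hl, hr, hr, halt, halt, one_mul, mul_one] at h1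
    calc χ b a = χ a b * χ a b * χ b a := by rw [hsq, one_mul]
      _ = χ a b := by rw [mul_assoc, h1, mul_one]
  have hsign : ∀ a b, χ a b = 1 ∨ χ a b = -1 := fun a b => mul_self_eq_one_iff.1 (hsq a b)
  have hone : ∀ a, χ a 1 = 1 := fun a => by
    have h := hr a 1 1
    rw [one_mul, hsq] at h
    exact h
  have hone' : ∀ a, χ 1 a = 1 := fun a => by rw [hsymm, hone]
  have hinvl : ∀ a b, χ a⁻¹ b = χ a b := fun a b => by
    have h := hl a a⁻¹ b
    rw [mul_inv_cancel, hone'] at h
    calc χ a⁻¹ b = χ a b * χ a b * χ a⁻¹ b := by rw [hsq, one_mul]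
      _ = χ a b := by rw [mul_assoc, ← h, mul_one]
  -- the radical
  have hTS : ∀ a ∈ S, T a ∈ S := fun a ha => (hrad _).1 fun b => by
    rw [← T.apply_symm_apply b, hinv]; exact (hrad a).2 ha _
  have hfree2 : ∀ h, T h * T.symm h ∈ S → h ∈ S := by
    intro h hh
    have h2 := (hrad _).2 (hTS _ hh)
    rw [map_mul, T.apply_symm_apply] at h2
    have hcong : ∀ b, χ (T (T h)) b = χ h b := fun b => by
      have := h2 b
      rw [hl] at this
      calc χ (T (T h)) b = χ (T (T h)) b * (χ h b * χ h b) := by rw [hsq, mul_one]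
        _ = χ h b := by rw [← mul_assoc, this, one_mul]
    have hiter : ∀ i b, χ ((T ^ (2 * i)) h) b = χ h b := by
      intro i
      induction i with
      | zero => intro b; rfl
      | succ i ih =>
        intro b
        have e : (T ^ (2 * (i + 1))) h = T (T ((T ^ (2 * i)) h)) := by
          rw [show 2 * (i + 1) = 2 + 2 * i by ring, pow_add, MulAut.mul_apply, pow_two,
            MulAut.mul_apply]
        rw [e, ← T.apply_symm_apply b, hinv, ← T.apply_symm_apply (T.symm b), hinv, ih, ← hinv,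
          T.apply_symm_apply, ← hinv, T.apply_symm_apply, hcong]
    obtain ⟨t, ht⟩ := hp.odd_of_ne_two hp2
    refine hfree h ((hrad _).1 fun b => ?_)
    have e : T h = T ((T ^ (2 * 0)) h) := rfl
    have h3 : χ (T h) b = χ h b := by
      have h4 : χ ((T ^ (2 * (t + 1))) h) b = χ h b := hiter (t + 1) b
      have e2 : (T ^ (2 * (t + 1))) h = T h := by
        rw [show 2 * (t + 1) = 1 + p by omega, pow_add, hT, mul_one, pow_one]
      rwa [e2] at h4
    rw [hl, hinvl, h3, hsq]
  have hiff : ∀ h, T h * T.symm h ∈ S ↔ h ∈ S := fun h =>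
    ⟨hfree2 h, fun hh => S.mul_mem (hTS h hh) ((hrad _).1 fun b => by
      rw [← hinv, T.apply_symm_apply]; exact (hrad h).2 hh _)⟩
  -- the sums
  let f : Q → ℤ := fun g => χ g (T g)
  have hfsq : ∀ g, f g * f g = 1 := fun g => hsq _ _
  have hfS : ∀ g ∈ S, f g = 1 := fun g hg => (hrad g).2 hg _
  have hmul : ∀ g h, f (g * h) = f g * f h * χ g (T h * T.symm h) := by
    intro g h
    simp only [f, map_mul, hl, hr]
    rw [show χ h (T g) = χ g (T.symm h) by rw [← T.apply_symm_apply h, hinv, hsymm, T.apply_symm_apply]]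
    ring
  have hsum : ∀ d, ∑ g : Q, χ g d = if d ∈ S then (Fintype.card Q : ℤ) else 0 := by
    intro d
    split_ifs with hd
    · rw [Finset.sum_congr rfl fun g _ => show χ g d = 1 by rw [hsymm]; exact (hrad d).2 hd g]
      simp
    · obtain ⟨b, hb⟩ : ∃ b, χ b d = -1 := by
        by_contra! hall
        exact hd ((hrad d).1 fun b => by rw [hsymm]; exact (hsign b d).resolve_right (hall b))
      have h1 : ∑ g : Q, χ g d = ∑ g : Q, χ (b * g) d :=
        (Equiv.sum_comp (Equiv.mulLeft b) (fun g => χ g d)).symm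
      have h2 : ∑ g : Q, χ (b * g) d = -∑ g : Q, χ g d := by
        rw [← Finset.sum_neg_distrib]
        exact Finset.sum_congr rfl fun g _ => by rw [hl, hb, neg_one_mul]
      omega
  set G0 : ℤ := ∑ g : Q, f g with hG0
  have hsquare : G0 * G0 = (Fintype.card Q : ℤ) * Nat.card S := by
    calc G0 * G0 = ∑ g : Q, f g * ∑ h : Q, f (g * h) := by
          rw [hG0, Finset.sum_mul]
          exact Finset.sum_congr rfl fun g _ => by
            rw [← hG0, show G0 = ∑ h : Q, f (g * h) from (Equiv.sum_comp (Equiv.mulLeft g) f).symm]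
      _ = ∑ h : Q, f h * ∑ g : Q, χ g (T h * T.symm h) := by
          simp only [Finset.mul_sum]
          rw [Finset.sum_comm]
          refine Finset.sum_congr rfl fun h _ => Finset.sum_congr rfl fun g _ => ?_
          rw [hmul, ← mul_assoc, ← mul_assoc, hfsq, one_mul]
      _ = ∑ h : Q, (if h ∈ S then (Fintype.card Q : ℤ) else 0) := by
          refine Finset.sum_congr rfl fun h _ => ?_
          rw [hsum]
          by_cases hh : h ∈ S
          · rw [if_pos ((hiff h).2 hh), if_pos hh, hfS h hh, one_mul]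
          · rw [if_neg (fun h' => hh ((hiff h).1 h')), if_neg hh, mul_zero]
      _ = _ := by
          rw [← Finset.sum_filter, Finset.sum_const, nsmul_eq_mul, mul_comm]
          congr 2
          rw [Nat.card_eq_fintype_card, ← Fintype.card_subtype]
  -- decomposition of the sum
  set A := Nat.card {g : Q // g ∉ S ∧ f g = 1} with hA
  set B := Nat.card {g : Q // χ g (T g) = -1} with hB
  have hBn : B = Nat.card {g : Q // g ∉ S ∧ f g = -1} := by
    refine Nat.card_congr (Equiv.subtypeEquivRight fun g => ⟨fun h => ⟨fun hg => ?_, h⟩, fun h => h.2⟩)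
    have := hfS g hg
    simp only [f] at this
    omega
  have hdvd : ∀ v : ℤ, p ∣ Nat.card {g : Q // g ∉ S ∧ f g = v} := by
    intro v
    have hmem : ∀ g : Q, (g ∉ S ∧ f g = v) ↔ (T g ∉ S ∧ f (T g) = v) := fun g => by
      have h1 : g ∈ S ↔ T g ∈ S := ⟨hTS g, fun h => (hrad g).1 fun b => by
        rw [← hinv]; exact (hrad _).2 h _⟩
      simp only [f, hinv, ← h1]
    refine dvd_card_of_no_fixed (T.toEquiv.subtypeEquiv hmem) (fun x => Subtype.ext ?_) fun x hx => ?_
    · have : ∀ k : ℕ, ((((T.toEquiv.subtypeEquiv hmem : Equiv.Perm _) ^ k) x).1 : Q) = (T ^ k) x.1 := by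
        intro k
        induction k with
        | zero => rfl
        | succ k ih => rw [pow_succ', Equiv.Perm.mul_apply, pow_succ', MulAut.mul_apply, ← ih]; rfl
      rw [this, hT]
      rfl
    · have h1 : T x.1 = x.1 := congrArg Subtype.val hx
      exact x.2.1 (hfree _ (by rw [h1, inv_mul_cancel]; exact S.one_mem))
  have hsplit : (Fintype.card Q : ℤ) = Nat.card S + A + B ∧ G0 = (Nat.card S : ℤ) + A - B := by
    rw [hBn, hA]
    simp only [Nat.card_eq_fintype_card, Fintype.card_subtype, Finset.card_filter, Nat.cast_sum,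
      hG0, ← Finset.sum_add_distrib, ← Finset.sum_sub_distrib]
    constructor
    · rw [← Finset.card_univ, Finset.card_eq_sum_ones, Nat.cast_sum]
      refine Finset.sum_congr rfl fun g _ => ?_
      by_cases hg : g ∈ S <;> rcases (hsign g (T g) : f g = 1 ∨ f g = -1) with h | h <;> simp [hg, f, h]
    · refine Finset.sum_congr rfl fun g _ => ?_
      by_cases hg : g ∈ S
      · simp [hg, hfS g hg]
      · rcases (hsign g (T g) : f g = 1 ∨ f g = -1) with h | h <;> simp [hg, f, h]
  obtain ⟨hQ, hG⟩ := hsplit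
  have hcQ : (Fintype.card Q : ℤ) = (2 : ℤ) ^ (2 * m) * Nat.card S := by
    have h := S.card_mul_index
    rw [hidx, Nat.card_eq_fintype_card (α := Q)] at h
    rw [← h]
    push_cast
    ring
  rw [hcQ, show ((2 : ℤ) ^ (2 * m) * Nat.card S) * Nat.card S = (2 ^ m * Nat.card S) * (2 ^ m * Nat.card S) by
    rw [two_mul m, pow_add]; ring, mul_self_eq_mul_self_iff] at hsquare
  obtain ⟨a', ha'⟩ := hdvd 1
  obtain ⟨b', hb'⟩ := hdvd (-1)
  rw [← hA] at ha'
  rw [← hBn] at hb'
  have hpS : ¬ (p : ℤ) ∣ Nat.card S := fun h => hpS0 (Int.natCast_dvd_natCast.1 h)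
  rcases hsquare with h | h
  · exfalso
    have h1 : (p : ℤ) ∣ ((2 : ℤ) ^ m - 1) * Nat.card S := by
      refine ⟨(a' : ℤ) - b', ?_⟩
      have ha2 : (A : ℤ) = p * a' := by exact_mod_cast ha'
      have hb2 : (B : ℤ) = p * b' := by exact_mod_cast hb'
      linear_combination (-1 : ℤ) * h + hG + ha2 - hb2
    have h2 : (p : ℤ) ∣ ((2 : ℤ) ^ m + 1) * Nat.card S := Dvd.dvd.mul_right (by exact_mod_cast hpm) _
    have h3 : (p : ℤ) ∣ 2 * Nat.card S := by
      have h5 := dvd_sub h2 h1
      rwa [show ((2 : ℤ) ^ m + 1) * Nat.card S - ((2 : ℤ) ^ m - 1) * Nat.card S = 2 * Nat.card S by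
        ring] at h5
    rcases (Nat.prime_iff_prime_int.1 hp).dvd_or_dvd h3 with h4 | h4
    · exact hp2 ((Nat.prime_dvd_prime_iff_eq hp Nat.prime_two).1 (by exact_mod_cast h4))
    · exact hpS h4
  · have h2 : (2 * B : ℤ) = (2 ^ (2 * m) + 2 ^ m) * Nat.card S := by
      rw [hcQ] at hQ
      linarith
    exact_mod_cast h2

end CfsgLib.ShultGross
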