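/-
The Hall-Higman step of the Shult-Gross theorem: a group element of odd prime power order without
fixed points on a module, and the groups normalized by it.
-/
import Mathlib
import Cfsg.Agent.Lib.HallHigmanExc.Module
import Cfsg.Agent.Lib.ShultGross.Count

set_option autoImplicit false
set_option linter.style.haveILetI false
set_option linter.unusedSectionVars false

open scoped commutatorElement

namespace CfsgLib.ShultGross

open CfsgLib.HallHigmanExc

universe u v w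

variable {X : Type w} [Group X] [Finite X] {p n : ℕ} [Fact p.Prime]
variable {K : Type u} [Field K] [IsAlgClosed K] {V : Type v} [AddCommGroup V] [Module K V]
  [FiniteDimensional K V] {ρ : X →* Module.End K V} {x : X}

/-- Without fixed points the sum of all powers vanishes. -/
theorem relation_of_fpf {N : ℕ} (hxN : x ^ N = 1) (hfix : ∀ v, ρ x v = v → v = 0) :
    ∑ i ∈ Finset.range N, ρ x ^ i = 0 := by
  refine LinearMap.ext fun v => hfix _ ?_
  have h := mul_geom_sum (ρ x) N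
  rw [← map_pow, hxN, map_one, sub_self] at h
  have h2 := LinearMap.congr_fun h v
  rw [Module.End.mul_apply, LinearMap.sub_apply, Module.End.one_apply, LinearMap.zero_apply,
    sub_eq_zero] at h2
  exact h2

theorem commutator_mul_eq_iff {Q : Subgroup X} {e : Module.End K V}
    (hQe : ∀ g ∈ Q, Commute (ρ g) e) {a b : X} (ha : a ∈ Q) (hb : b ∈ Q) :
    ρ ⁅a, b⁆ * e = e ↔ ρ a * ρ b * e = ρ b * ρ a * e := by
  have hc : Commute (ρ (b * a)) e := hQe _ (Q.mul_mem hb ha)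
  have hab : a * b = ⁅a, b⁆ * (b * a) := by simp [commutatorElement_def, mul_assoc]
  rw [← map_mul, ← map_mul, hab, map_mul, mul_assoc, hc.eq, ← mul_assoc]
  refine ⟨fun h => by rw [h], fun h => ?_⟩
  calc ρ ⁅a, b⁆ * e = ρ ⁅a, b⁆ * e * (ρ (b * a) * ρ (b * a)⁻¹) := by
        rw [← map_mul, mul_inv_cancel, map_one, mul_one]
    _ = ρ ⁅a, b⁆ * e * ρ (b * a) * ρ (b * a)⁻¹ := by simp only [mul_assoc]
    _ = e * ρ (b * a) * ρ (b * a)⁻¹ := by rw [h]
    _ = e := by rw [mul_assoc, ← map_mul, mul_inv_cancel, map_one, mul_one]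

/-- A group on which the element of order `p` of `⟨x⟩` is nontrivial is exceptional. -/
theorem exception (hp2 : p ≠ 2) (hxn : x ^ p ^ (n + 1) = 1) (hfix : ∀ v, ρ x v = v → v = 0)
    {r : ℕ} [Fact r.Prime] (hrK : (r : K) ≠ 0) (hrp : r ≠ p) {Q : Subgroup X} (hQ : IsPGroup r Q)
    (hxQ : x ∈ Subgroup.normalizer (Q : Set X)) (hfaith : ∀ g ∈ Q, ρ g = 1 → g = 1)
    (hne : ∃ g ∈ Q, x ^ p ^ n * g ≠ g * x ^ p ^ n) :
    r = 2 ∧ ¬ IsMulCommutative Q := by
  classical
  have hp : p.Prime := Fact.out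
  have hr : r.Prime := Fact.out
  set z := x ^ p ^ n with hz
  obtain ⟨Q₀, ⟨hQ₀le, hxQ₀, g₁, hg₁, hg₁'⟩, hmin⟩ :=
    (Set.toFinite {R : Subgroup X | R ≤ Q ∧ x ∈ Subgroup.normalizer (R : Set X) ∧
      ∃ g ∈ R, z * g ≠ g * z}).exists_minimal ⟨Q, le_rfl, hxQ, hne⟩
  have hmin' : ∀ R : Subgroup X, R < Q₀ → x ∈ Subgroup.normalizer (R : Set X) →
      ∀ g ∈ R, z * g = g * z := fun R hR hxR g hg => by
    by_contra hcon
    exact hR.not_ge (hmin ⟨hR.le.trans hQ₀le, hxR, g, hg, hcon⟩ hR.le)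
  have hQ₀ : IsPGroup r Q₀ := hQ.to_le hQ₀le
  obtain ⟨hgen, hcl, -⟩ := structure_of_minimal (A := Subgroup.zpowers x) (D := Subgroup.zpowers z)
    (Q := Q₀) hQ₀ (Subgroup.zpowers_le.2 hxQ₀)
    (Subgroup.zpowers_le.2 (Subgroup.centralizer_le_normalizer _ (Subgroup.mem_centralizer_iff.2
      fun d hd => by
        obtain ⟨i, rfl⟩ := Subgroup.mem_zpowers_iff.1 hd
        exact ((Commute.self_pow x (p ^ n)).zpow_right i).eq.symm)))
    (Subgroup.zpowers_le.2 (Subgroup.pow_mem _ hxQ₀ _))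
    (by
      obtain ⟨j, hj⟩ := IsPGroup.iff_card.1 hQ₀
      rw [Nat.card_zpowers, hj]
      have hdvd : orderOf z ∣ p ^ 1 := orderOf_dvd_of_pow_eq_one (by
        rw [hz, ← pow_mul, ← pow_add, hxn])
      exact ((((Nat.coprime_primes hp hr).2 hrp.symm).pow 1 j).coprime_dvd_left hdvd))
    (fun h => hg₁' (Subgroup.mem_centralizer_iff.1 (h (Subgroup.mem_zpowers z)) g₁ hg₁).symm)
    (fun R hR hxR => Subgroup.zpowers_le.2 (Subgroup.mem_centralizer_iff.2 fun g hg =>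
      (hmin' R hR (hxR (Subgroup.mem_zpowers x)) g hg).symm))
  obtain ⟨hf, hsum⟩ := exists_sum_blk (K := K) (centerImage ρ Q₀) (card_centerImage_ne_zero hQ₀ hrK)
  obtain ⟨l, hl⟩ : ∃ l : centerImage ρ Q₀ →* Kˣ,
      ρ g₁ * blk (centerImage ρ Q₀) l ≠ blk (centerImage ρ Q₀) l := by
    by_contra! hall
    have h : ρ g₁ = 1 := by rw [← mul_one (ρ g₁), ← hsum, Finset.mul_sum]; simp [hall]
    exact hg₁' (by rw [hfaith g₁ (hQ₀le hg₁) h, mul_one, one_mul])
  have hl0 : blk (centerImage ρ Q₀) l ≠ 0 := fun h => hl (by rw [h, mul_zero])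
  have hpos : 0 < p ^ (n + 1) := pow_pos hp.pos _
  obtain ⟨t, -, -, -, h⟩ := char_block (p := p) hrK hQ₀ hcl hxQ₀ (Nat.le_add_left 1 n) hxn hgen
    (s := p ^ (n + 1) - 1) (c := fun _ => (1 : K)) (by omega) one_ne_zero
    (by simp only [one_smul, Nat.sub_add_cancel hpos]; exact relation_of_fpf hxn hfix) l hl0
  rcases h with h | ⟨j, m, -, hm, hjm, -, hidx⟩
  · exact absurd (h g₁ hg₁) hl
  refine ⟨eq_two_of_pow_sub_one hp hp2 hr hm hjm, fun hab => ?_⟩
  have h1 : blockKer ρ Q₀ (blk (centerImage ρ Q₀) l) (fun _ h => commute_blk_of_mem l h) = Q₀ := by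
    refine le_antisymm blockKer_le fun g hg => ⟨hg, fun b hb => ?_⟩
    rw [← map_mul, ← map_mul, show g * b = b * g from
      congrArg Subtype.val (hab.is_comm.comm ⟨g, hQ₀le hg⟩ ⟨b, hQ₀le hb⟩)]
  rw [h1, Subgroup.relIndex_self] at hidx
  exact absurd hidx.symm (Nat.one_lt_pow (by omega) hr.one_lt).ne'

theorem odd_centralized (hp2 : p ≠ 2) (hxn : x ^ p ^ (n + 1) = 1)
    (hfix : ∀ v, ρ x v = v → v = 0) {r : ℕ} [Fact r.Prime] (hrK : (r : K) ≠ 0) (hrp : r ≠ p)
    (hr2 : r ≠ 2) {Q : Subgroup X} (hQ : IsPGroup r Q)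
    (hxQ : x ∈ Subgroup.normalizer (Q : Set X)) (hfaith : ∀ g ∈ Q, ρ g = 1 → g = 1) :
    ∀ g ∈ Q, x ^ p ^ n * g = g * x ^ p ^ n := by
  by_contra hne
  push Not at hne
  exact hr2 (exception hp2 hxn hfix hrK hrp hQ hxQ hfaith hne).1

theorem abelian_centralized (hp2 : p ≠ 2) (hxn : x ^ p ^ (n + 1) = 1)
    (hfix : ∀ v, ρ x v = v → v = 0) {r : ℕ} [Fact r.Prime] (hrK : (r : K) ≠ 0) (hrp : r ≠ p)
    {Q : Subgroup X} (hQ : IsPGroup r Q) (hab : IsMulCommutative Q)
    (hxQ : x ∈ Subgroup.normalizer (Q : Set X)) (hfaith : ∀ g ∈ Q, ρ g = 1 → g = 1) :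
    ∀ g ∈ Q, x ^ p ^ n * g = g * x ^ p ^ n := by
  by_contra hne
  push Not at hne
  exact (exception hp2 hxn hfix hrK hrp hQ hxQ hfaith hne).2 hab

/-- A free action of `⟨y⟩` gives divisibility. -/
theorem orderOf_dvd_card {y : X} {U : Set X} (hU : ∀ g, g ∈ U ↔ y * g * y⁻¹ ∈ U)
    (hfree : ∀ i : ℕ, ¬ orderOf y ∣ i → ∀ g ∈ U, y ^ i * g * (y ^ i)⁻¹ ≠ g) :
    orderOf y ∣ Nat.card U := by
  classical
  haveI := Fintype.ofFinite U
  let σ : Equiv.Perm U :=
    (MulAut.conj y).toEquiv.subtypeEquiv fun g => by simpa using hU g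
  have hσ : ∀ (i : ℕ) (g : U), (((σ ^ i) g : U) : X) = y ^ i * g * (y ^ i)⁻¹ := by
    intro i
    induction i with
    | zero => intro g; simp
    | succ i ih =>
      intro g
      rw [pow_succ', Equiv.Perm.mul_apply]
      show y * (((σ ^ i) g : U) : X) * y⁻¹ = _
      rw [ih, pow_succ', mul_inv_rev]
      simp only [mul_assoc]
  letI : MulAction (Subgroup.zpowers σ) U := MulAction.compHom _ (Subgroup.zpowers σ).subtype
  have hstab : ∀ b : U, MulAction.stabilizer (Subgroup.zpowers σ) b = ⊥ := by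
    intro b
    refine (Subgroup.eq_bot_iff_forall _).2 fun a ha => ?_
    obtain ⟨i, hi⟩ := (mem_powers_iff_mem_zpowers (x := σ) (y := (a : Equiv.Perm U))).2 a.2
    dsimp only at hi
    refine Subtype.ext ?_
    rw [← hi, OneMemClass.coe_one]
    by_contra hne
    have hb : (σ ^ i) b = b := by rw [hi]; exact ha
    refine hfree i (fun hd => hne ?_) b b.2 ?_
    · refine Equiv.ext fun g => Subtype.ext ?_
      rw [hσ, orderOf_dvd_iff_pow_eq_one.1 hd]
      simp
    · rw [← hσ, hb]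
  have h1 : Nat.card U = Nat.card (Quotient (MulAction.orbitRel (Subgroup.zpowers σ) U) ×
      (Subgroup.zpowers σ)) :=
    Nat.card_congr (MulAction.selfEquivOrbitsQuotientProd hstab)
  rw [h1, Nat.card_prod, Nat.card_zpowers]
  rcases isEmpty_or_nonempty U with hU0 | ⟨⟨b⟩⟩
  · simp
  refine Dvd.dvd.mul_left ?_ _
  by_contra hnd
  refine hfree (orderOf σ) hnd b b.2 ?_
  rw [← hσ, pow_orderOf_eq_one]
  rfl

/-- An exceptional group admits no odd group commuting with the element of order `p`. -/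
theorem centralizes_of_fixed (hp2 : p ≠ 2) (hxn : x ^ p ^ (n + 1) = 1)
    (hfix : ∀ v, ρ x v = v → v = 0) (h2K : (2 : K) ≠ 0) {Q O : Subgroup X} (hQ : IsPGroup 2 Q)
    (hxQ : x ∈ Subgroup.normalizer (Q : Set X)) (hfaith : ∀ g ∈ Q, ρ g = 1 → g = 1)
    {r : ℕ} [Fact r.Prime] (hr2 : r ≠ 2) (hrp : r ≠ p) (hO : IsPGroup r O)
    (hxO : x ∈ Subgroup.normalizer (O : Set X)) (hOQ : O ≤ Subgroup.normalizer (Q : Set X))
    (hOz : ∀ s ∈ O, x ^ p ^ n * s = s * x ^ p ^ n)
    (hOfix : ∀ g ∈ Q, x ^ p ^ n * g = g * x ^ p ^ n → ∀ s ∈ O, s * g = g * s) :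
    O ≤ Subgroup.centralizer (Q : Set X) := by
  classical
  have hp : p.Prime := Fact.out
  have hr : r.Prime := Fact.out
  haveI : Fact (Nat.Prime 2) := ⟨Nat.prime_two⟩
  have h2K' : ((2 : ℕ) : K) ≠ 0 := by exact_mod_cast h2K
  set z := x ^ p ^ n with hz
  set A := Subgroup.zpowers x ⊔ O with hA
  have hxA : x ∈ A := Subgroup.mem_sup_left (Subgroup.mem_zpowers x)
  have hOA : O ≤ A := le_sup_right
  have hAO : A ≤ Subgroup.normalizer (O : Set X) := sup_le (Subgroup.zpowers_le.2 hxO) Subgroup.le_normalizer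
  have hAz : A ≤ Subgroup.centralizer ({z} : Set X) := by
    refine sup_le (Subgroup.zpowers_le.2 ?_) fun s hs => ?_
    · rw [Subgroup.mem_centralizer_singleton_iff]
      exact (Commute.self_pow x (p ^ n)).eq
    · rw [Subgroup.mem_centralizer_singleton_iff]
      exact (hOz s hs).symm
  by_contra hcon
  obtain ⟨Q₀, ⟨hQ₀le, hAQ₀, hne⟩, hmin⟩ :=
    (Set.toFinite {R : Subgroup X | R ≤ Q ∧ A ≤ Subgroup.normalizer (R : Set X) ∧
      ¬ O ≤ Subgroup.centralizer (R : Set X)}).exists_minimal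
      ⟨Q, le_rfl, sup_le (Subgroup.zpowers_le.2 hxQ) hOQ, hcon⟩
  have hmin' : ∀ R : Subgroup X, R < Q₀ → A ≤ Subgroup.normalizer (R : Set X) →
      O ≤ Subgroup.centralizer (R : Set X) := fun R hR hAR => by
    by_contra h
    exact hR.not_ge (hmin ⟨hR.le.trans hQ₀le, hAR, h⟩ hR.le)
  have hQ₀ : IsPGroup 2 Q₀ := hQ.to_le hQ₀le
  have hxQ₀ : x ∈ Subgroup.normalizer (Q₀ : Set X) := hAQ₀ hxA
  have hzQ₀ : z ∈ Subgroup.normalizer (Q₀ : Set X) := Subgroup.pow_mem _ hxQ₀ _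
  obtain ⟨hQO, hcl, -⟩ := structure_of_minimal (A := A) (D := O) hQ₀ hAQ₀ hAO (hOA.trans hAQ₀)
    (by
      obtain ⟨a, ha⟩ := IsPGroup.iff_card.1 hO
      obtain ⟨b, hb⟩ := IsPGroup.iff_card.1 hQ₀
      rw [ha, hb]
      exact ((Nat.coprime_primes hr Nat.prime_two).2 hr2).pow a b) hne hmin'
  have hcopz : (Nat.card (Subgroup.zpowers z)).Coprime (Nat.card Q₀) := by
    obtain ⟨b, hb⟩ := IsPGroup.iff_card.1 hQ₀
    rw [Nat.card_zpowers, hb]
    have hdvd : orderOf z ∣ p ^ 1 := orderOf_dvd_of_pow_eq_one (by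
      rw [hz, ← pow_mul, ← pow_add, hxn])
    exact (((Nat.coprime_primes hp Nat.prime_two).2 hp2).pow 1 b).coprime_dvd_left hdvd
  have hzN : Subgroup.zpowers z ≤ Subgroup.normalizer (Q₀ : Set X) := Subgroup.zpowers_le.2 hzQ₀
  -- `Q₀` is generated by commutators with `z`
  have hgen : Q₀ ≤ ⁅Q₀, Subgroup.zpowers z⁆ := by
    by_contra hlt'
    have hlt : ⁅Q₀, Subgroup.zpowers z⁆ < Q₀ :=
      lt_of_le_not_ge (CoprimeAction.commutator_le_left hzN) hlt'
    have h1 : A ≤ Subgroup.normalizer ((⁅Q₀, Subgroup.zpowers z⁆ : Subgroup X) : Set X) := by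
      intro a ha
      rw [← CoprimeAction.conj_smul_eq_self]
      show Subgroup.map (MulAut.conj a).toMonoidHom _ = _
      rw [Subgroup.map_commutator]
      congr 1
      · exact CoprimeAction.conj_smul_eq_self.2 (hAQ₀ ha)
      · rw [MonoidHom.map_zpowers]
        show Subgroup.zpowers (a * z * a⁻¹) = _
        rw [Subgroup.mem_centralizer_singleton_iff.1 (hAz ha), mul_inv_cancel_right]
    have h2 := hmin' _ hlt h1
    refine hne ?_
    rw [Subgroup.le_centralizer_iff]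
    rw [Subgroup.le_centralizer_iff] at h2
    calc Q₀ = ⁅Q₀, Subgroup.zpowers z⁆ ⊔
          (Q₀ ⊓ Subgroup.centralizer ((Subgroup.zpowers z : Subgroup X) : Set X)) :=
          (CoprimeAction.commutator_sup_centralizer hzN hcopz
            (Or.inl (CoprimeAction.isSolvable_zpowers z))).symm
      _ ≤ _ := sup_le h2 fun g hg => Subgroup.mem_centralizer_iff.2 fun s hs =>
          hOfix g (hQ₀le hg.1) (Subgroup.mem_centralizer_iff.1 hg.2 z (Subgroup.mem_zpowers z)) s hs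
  -- the centre is fixed
  set Z := Q₀ ⊓ Subgroup.centralizer (Q₀ : Set X) with hZ
  have hZz : ∀ g ∈ Z, z * g = g * z := by
    refine abelian_centralized hp2 hxn hfix h2K' (fun h => hp2 h.symm) (hQ₀.to_le inf_le_left) ?_ ?_
      fun g hg => hfaith g (hQ₀le hg.1)
    · exact ⟨⟨fun a b => Subtype.ext (Subgroup.mem_centralizer_iff.1 b.2.2 a a.2.1)⟩⟩
    · refine Subgroup.inf_normalizer_le_normalizer_inf ⟨hxQ₀, ?_⟩
      refine CoprimeAction.mem_normalizer_of_conj_mem fun g hg => ?_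
      rw [Subgroup.mem_centralizer_iff]
      intro b hb
      have hb' : x⁻¹ * b * x ∈ Q₀ := CoprimeAction.conj_mem' hxQ₀ hb
      calc b * (x * g * x⁻¹) = x * ((x⁻¹ * b * x) * g) * x⁻¹ := by group
        _ = x * (g * (x⁻¹ * b * x)) * x⁻¹ := by rw [Subgroup.mem_centralizer_iff.1 hg _ hb']
        _ = _ := by group
  have hZO : ∀ g ∈ Z, ∀ s ∈ O, s * g = g * s := fun g hg => hOfix g (hQ₀le hg.1) (hZz g hg)
  have hcomZ : ∀ a ∈ Q₀, ∀ b ∈ Q₀, ⁅a, b⁆ ∈ Z := fun a ha b hb =>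
    ⟨Q₀.mul_mem (Q₀.mul_mem (Q₀.mul_mem ha hb) (Q₀.inv_mem ha)) (Q₀.inv_mem hb),
      hcl (Subgroup.commutator_mem_commutator ha hb)⟩
  -- a commutator outside the centre
  obtain ⟨g₀, hg₀, s₀, hs₀, hc⟩ : ∃ g ∈ Q₀, ∃ s ∈ O, ⁅g, s⁆ ∉ Z := by
    by_contra! hall
    have h1 : Q₀ ≤ Z := hQO.trans (Subgroup.commutator_le.2 hall)
    have h2 : ⁅Q₀, Subgroup.zpowers z⁆ = ⊥ := by
      rw [Subgroup.commutator_eq_bot_iff_le_centralizer]
      intro g hg
      refine Subgroup.mem_centralizer_iff.2 fun d hd => ?_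
      obtain ⟨i, rfl⟩ := Subgroup.mem_zpowers_iff.1 hd
      exact ((show Commute z g from hZz g (h1 hg)).zpow_left i).eq
    refine hne fun s _ => Subgroup.mem_centralizer_iff.2 fun g hg => ?_
    rw [Subgroup.mem_bot.1 ((hgen.trans h2.le) hg), one_mul, mul_one]
  set c₀ := ⁅g₀, s₀⁆ with hc₀
  have hc₀Q : c₀ ∈ Q₀ :=
    CoprimeAction.commutator_le_left (hOA.trans hAQ₀) (Subgroup.commutator_mem_commutator hg₀ hs₀)
  obtain ⟨b₀, hb₀, hb₀'⟩ : ∃ b ∈ Q₀, c₀ * b ≠ b * c₀ := by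
    by_contra! hall
    exact hc ⟨hc₀Q, Subgroup.mem_centralizer_iff.2 fun b hb => (hall b hb).symm⟩
  have hcard := card_centerImage_ne_zero (ρ := ρ) hQ₀ h2K'
  obtain ⟨l, hl⟩ : ∃ l : centerImage ρ Q₀ →* Kˣ,
      (ρ ⁅c₀, b₀⁆ - 1) * blk (centerImage ρ Q₀) l ≠ 0 := by
    refine exists_blk_ne_zero (centerImage ρ Q₀) hcard (sub_ne_zero.2 fun h => hb₀' ?_)
    exact commutatorElement_eq_one_iff_mul_comm.1 (hfaith _ (hQ₀le (hcomZ _ hc₀Q _ hb₀).1) h)
  set e := blk (centerImage ρ Q₀) l with he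
  have hQe : ∀ g ∈ Q₀, Commute (ρ g) e := fun g hg => commute_blk_of_mem l hg
  set S := blockKer ρ Q₀ e hQe with hS
  have hl0 : e ≠ 0 := fun h => hl (by rw [h, mul_zero])
  have hmemS : ∀ a ∈ Q₀, a ∈ S ↔ ∀ b ∈ Q₀, ρ ⁅a, b⁆ * e = e := fun a ha => by
    rw [hS, mem_blockKer]
    exact ⟨fun h b hb => (commutator_mul_eq_iff hQe ha hb).2 (h.2 b hb),
      fun h => ⟨ha, fun b hb => (commutator_mul_eq_iff hQe ha hb).1 (h b hb)⟩⟩
  have hc₀S : c₀ ∉ S := fun h => hl (by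
    rw [sub_mul, one_mul, (hmemS c₀ hc₀Q).1 h b₀ hb₀, sub_self])
  have hcomm : ∀ a ∈ Q₀, ∀ b ∈ Q₀, ∃ d : K, ρ (a * b * a⁻¹ * b⁻¹) * e = d • e :=
    fun a ha b hb => scalar_commutators hcl l ha hb
  have hQS : ⁅Q₀, Q₀⁆ ≤ S := commutator_le_blockKer hcomm
  have hpos : 0 < p ^ (n + 1) := pow_pos hp.pos _
  obtain ⟨t, htn, -, hiff, h⟩ := char_block (p := p) h2K' hQ₀ hcl hxQ₀ (Nat.le_add_left 1 n) hxn hgen
    (s := p ^ (n + 1) - 1) (c := fun _ => (1 : K)) (by omega) one_ne_zero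
    (by simp only [one_smul, Nat.sub_add_cancel hpos]; exact relation_of_fpf hxn hfix) l hl0
  rcases h with h | ⟨j, m, hjk, hm, hjm, -, hidx⟩
  · exact hl (by rw [sub_mul, one_mul, h _ (hcomZ _ hc₀Q _ hb₀).1, sub_self])
  have hze : Commute (ρ z) e := (hiff _).2 (Nat.pow_dvd_pow p (by omega))
  have hzS : z ∈ Subgroup.normalizer (S : Set X) := blockKer_normalizer hzQ₀ hze
  have hfree : ∀ g ∈ Q₀, g⁻¹ * (z * g * z⁻¹) ∈ S → g ∈ S := fun g hg hgz =>
    mem_of_commutator_mem blockKer_le hQS hzQ₀ hzS hgen hg hgz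
  set y := x ^ p ^ t with hy
  set k := n + 1 - t with hk
  have hyQ : y ∈ Subgroup.normalizer (Q₀ : Set X) := Subgroup.pow_mem _ hxQ₀ _
  have hyS : y ∈ Subgroup.normalizer (S : Set X) := blockKer_normalizer hyQ ((hiff _).2 dvd_rfl)
  have hyz : y ^ p ^ (k - 1) = z := by
    rw [hy, hz, ← pow_mul, ← pow_add, show t + (k - 1) = n by omega]
  have hyk : y ^ p ^ k = 1 := by rw [hy, ← pow_mul, ← pow_add, show t + k = n + 1 by omega, hxn]
  have hzne : z ≠ 1 := by
    intro h1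
    refine hc₀S (hfree c₀ hc₀Q ?_)
    rw [h1, one_mul, inv_one, mul_one, inv_mul_cancel]
    exact S.one_mem
  have hyord : orderOf y = p ^ k := by
    have h1 : k = k - 1 + 1 := by omega
    rw [h1]
    exact orderOf_eq_prime_pow (by rwa [hyz]) (by rwa [← h1])
  have hmp : 2 ^ m + 1 = p ^ j := by
    have := Nat.one_le_pow j p hp.pos
    omega
  have hj0 : j ≠ 0 := by
    rintro rfl
    simp only [pow_zero] at hjm
    exact absurd hjm (Nat.two_pow_pos m).ne
  -- semiregularity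
  have hsemi : ∀ i : ℕ, ¬ orderOf y ∣ i → ∀ g ∈ Q₀, y ^ i * g * (y ^ i)⁻¹ = g → g ∈ S := by
    intro i hi g hg hfx
    rw [hyord] at hi
    have hlt : (p ^ k).gcd i < p ^ k :=
      lt_of_le_of_ne (Nat.le_of_dvd (pow_pos hp.pos _) (Nat.gcd_dvd_left _ _))
        fun h => hi (h ▸ Nat.gcd_dvd_right _ _)
    obtain ⟨a, ha⟩ := CfsgLib.HallHigmanB.exists_pow_gcd hyk hlt
    obtain ⟨b, hb, hbe⟩ := (Nat.dvd_prime_pow hp).1 (Nat.gcd_dvd_left (p ^ k) i)
    have hbk : b ≤ k - 1 := by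
      by_contra hbk
      rw [hbe, show b = k by omega] at hlt
      exact lt_irrefl _ hlt
    have hcg : Commute (y ^ i) g := mul_inv_eq_iff_eq_mul.1 hfx
    have h1 : Commute (y ^ p ^ b) g := by
      rw [← hbe, ← ha, pow_mul]
      exact hcg.pow_left a
    have h2 : Commute z g := by
      rw [← hyz, show k - 1 = b + (k - 1 - b) by omega, pow_add, pow_mul]
      exact h1.pow_left _
    refine hfree g hg ?_
    rw [h2.eq, mul_inv_cancel_right, inv_mul_cancel]
    exact S.one_mem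
  -- the dichotomy for invariant subgroups
  obtain ⟨aS, haS⟩ := IsPGroup.iff_card.1 (hQ₀.to_le (show S ≤ Q₀ from blockKer_le))
  have hQcard : Nat.card Q₀ = 2 ^ aS * 2 ^ (2 * m) := by
    have h1 := (S.subgroupOf Q₀).card_mul_index
    rw [Nat.card_congr (Subgroup.subgroupOfEquivOfLe (show S ≤ Q₀ from blockKer_le)).toEquiv, haS] at h1
    rw [← h1]
    exact congrArg (2 ^ aS * ·) hidx
  have hirr : ∀ U : Subgroup X, S ≤ U → U ≤ Q₀ → y ∈ Subgroup.normalizer (U : Set X) →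
      U = S ∨ U = Q₀ := by
    intro U hSU hUQ hyU
    obtain ⟨aU, haU⟩ := IsPGroup.iff_card.1 (hQ₀.to_le hUQ)
    have hle : aS ≤ aU := (Nat.pow_dvd_pow_iff_le_right (by norm_num)).1
      (haS ▸ haU ▸ Subgroup.card_dvd_of_le hSU)
    obtain ⟨d, rfl⟩ := Nat.exists_eq_add_of_le hle
    have hd : p ^ k ∣ 2 ^ d - 1 := by
      have h1 := orderOf_dvd_card (y := y) (U := (U : Set X) \ (S : Set X)) (fun g => by
          simp only [Set.mem_sdiff, SetLike.mem_coe]
          rw [← Subgroup.mem_normalizer_iff.1 hyU g, ← Subgroup.mem_normalizer_iff.1 hyS g])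
        (fun i hi g hg hfx => hg.2 (hsemi i hi g (hUQ hg.1) hfx))
      have h2 : Nat.card ↑((U : Set X) \ (S : Set X)) = 2 ^ aS * (2 ^ d - 1) := by
        rw [Nat.card_coe_set_eq, Set.ncard_sdiff (SetLike.coe_subset_coe.2 hSU),
          ← Nat.card_coe_set_eq, ← Nat.card_coe_set_eq, Nat.mul_sub, mul_one, ← pow_add, ← haU, ← haS]
        rfl
      rw [h2, hyord] at h1
      exact (((Nat.coprime_primes hp Nat.prime_two).2 hp2).pow k aS).dvd_of_dvd_mul_left h1
    have hd2 : d ≤ 2 * m := by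
      have h1 := Subgroup.card_dvd_of_le hUQ
      rw [haU, hQcard, ← pow_add, Nat.pow_dvd_pow_iff_le_right (by norm_num)] at h1
      omega
    have hk2m : p ^ k ∣ 2 ^ (2 * m) - 1 := by
      have h1 := orderOf_dvd_card (y := y) (U := (Q₀ : Set X) \ (S : Set X)) (fun g => by
          simp only [Set.mem_sdiff, SetLike.mem_coe]
          rw [← Subgroup.mem_normalizer_iff.1 hyQ g, ← Subgroup.mem_normalizer_iff.1 hyS g])
        (fun i hi g hg hfx => hg.2 (hsemi i hi g hg.1 hfx))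
      have h2 : Nat.card ↑((Q₀ : Set X) \ (S : Set X)) = 2 ^ aS * (2 ^ (2 * m) - 1) := by
        rw [Nat.card_coe_set_eq, Set.ncard_sdiff (SetLike.coe_subset_coe.2 blockKer_le),
          ← Nat.card_coe_set_eq, ← Nat.card_coe_set_eq, Nat.mul_sub, mul_one, ← hQcard, ← haS]
        rfl
      rw [h2, hyord] at h1
      exact (((Nat.coprime_primes hp Nat.prime_two).2 hp2).pow k aS).dvd_of_dvd_mul_left h1
    -- `p ^ k = 2 ^ m + 1`
    have hkj : k = j := by
      refine le_antisymm ?_ hjk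
      have h1 : p ^ k ∣ (2 ^ m - 1) * (2 ^ m + 1) := by
        convert hk2m using 1
        rw [two_mul, pow_add, Nat.mul_comm, ← Nat.sq_sub_sq]
        ring_nf
      rw [hmp] at h1
      have hcop : (p ^ k).Coprime (2 ^ m - 1) := by
        refine (hp.coprime_iff_not_dvd.2 fun h => ?_).pow_left k
        have h2 : p ∣ 2 ^ m + 1 := hmp ▸ dvd_pow_self p hj0
        have h3 := Nat.dvd_sub h2 h
        rw [show 2 ^ m + 1 - (2 ^ m - 1) = 2 by have := Nat.two_pow_pos m; omega] at h3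
        exact hp2 ((Nat.prime_dvd_prime_iff_eq hp Nat.prime_two).1 h3)
      exact (Nat.pow_dvd_pow_iff_le_right hp.one_lt).1 (hcop.dvd_of_dvd_mul_left h1)
    rw [hkj, ← hmp] at hd hk2m
    rcases Nat.eq_zero_or_pos d with rfl | hdpos
    · exact Or.inl (Subgroup.eq_of_le_of_card_ge hSU (by rw [haU, haS]; simp)).symm
    rcases hd2.eq_or_lt with rfl | hdlt
    · exact Or.inr (Subgroup.eq_of_le_of_card_ge hUQ (by rw [haU, hQcard, pow_add]))
    exfalso
    have hg := Nat.dvd_gcd hd hk2m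
    rw [Nat.pow_sub_one_gcd_pow_sub_one] at hg
    have hgm : d.gcd (2 * m) ≤ m := by
      obtain ⟨c, hc⟩ := Nat.gcd_dvd_right d (2 * m)
      have hlt : d.gcd (2 * m) < 2 * m := lt_of_le_of_lt (Nat.gcd_le_left _ hdpos) hdlt
      have : 2 ≤ c := by
        rcases c with _ | _ | c
        · simp at hc; omega
        · simp at hc; omega
        · omega
      nlinarith
    have hgpos : 0 < d.gcd (2 * m) := Nat.gcd_pos_of_pos_left _ hdpos
    have h1 := Nat.le_of_dvd (by have := Nat.one_lt_pow hgpos.ne' one_lt_two; omega) hg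
    have h2 := Nat.pow_le_pow_right two_pos hgm
    omega
  -- squares lie in the kernel
  have hSn : ∀ g ∈ Q₀, g ∈ Subgroup.normalizer (S : Set X) := fun g hg =>
    blockKer_normalizer (Subgroup.le_normalizer hg) (hQe g hg)
  have hsquares : ∀ g ∈ Q₀, g * g ∈ S := by
    let U : Subgroup X :=
      { carrier := {g | g ∈ Q₀ ∧ g * g ∈ S}
        one_mem' := ⟨Q₀.one_mem, by simp⟩
        inv_mem' := fun {g} hg => ⟨Q₀.inv_mem hg.1, by
          rw [show g⁻¹ * g⁻¹ = (g * g)⁻¹ by simp]; exact S.inv_mem hg.2⟩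
        mul_mem' := fun {a b} ha hb => ⟨Q₀.mul_mem ha.1 hb.1, by
          rw [show a * b * (a * b) = a * ⁅b, a⁆ * a⁻¹ * ((a * a) * (b * b)) by
            simp [commutatorElement_def, mul_assoc]]
          exact S.mul_mem (CoprimeAction.conj_mem (hSn a ha.1)
            (hQS (Subgroup.commutator_mem_commutator hb.1 ha.1))) (S.mul_mem ha.2 hb.2)⟩ }
    have hSU : S ≤ U := fun g hg => ⟨blockKer_le hg, S.mul_mem hg hg⟩
    have hyU : y ∈ Subgroup.normalizer (U : Set X) := CoprimeAction.mem_normalizer_of_conj_mem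
      fun g hg => ⟨CoprimeAction.conj_mem hyQ hg.1, by
        rw [show y * g * y⁻¹ * (y * g * y⁻¹) = y * (g * g) * y⁻¹ by group]
        exact CoprimeAction.conj_mem hyS hg.2⟩
    rcases hirr U hSU (fun g hg => hg.1) hyU with h | h
    · exfalso
      have key : ∀ i, c₀ ^ 2 ^ i ∈ S → c₀ ∈ S := by
        intro i
        induction i with
        | zero => simp
        | succ i ih =>
          intro hi
          refine ih (h.le (show c₀ ^ 2 ^ i ∈ U from ⟨Q₀.pow_mem hc₀Q _, ?_⟩))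
          rw [← pow_add, ← two_mul, ← pow_succ']
          exact hi
      obtain ⟨i, hi⟩ := IsPGroup.iff_orderOf.1 hQ₀ ⟨c₀, hc₀Q⟩
      rw [Subgroup.orderOf_mk] at hi
      exact hc₀S (key i (by rw [← hi, pow_orderOf_eq_one]; exact S.one_mem))
    · exact fun g hg => (h.ge hg).2
  -- the sign form
  have hsc : ∀ a b : Q₀, ∃ d : K, ρ ⁅(a : X), (b : X)⁆ * e = d • e := fun a b => hcomm a a.2 b b.2
  choose cs hcs using hsc
  have huniq : ∀ {d d' : K}, d • e = d' • e → d = d' := fun h => smul_left_injective K hl0 h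
  have hcmul : ∀ a a' b : Q₀, cs (a * a') b = cs a b * cs a' b := by
    intro a a' b
    refine huniq ?_
    rw [← hcs, show ⁅((a * a' : Q₀) : X), (b : X)⁆ = ⁅(a' : X), (b : X)⁆ * ⁅(a : X), (b : X)⁆ by
      rw [Subgroup.coe_mul]
      have h1 := Subgroup.mem_centralizer_iff.1 (hcomZ _ a'.2 _ b.2).2 a a.2
      calc ⁅(a : X) * a', (b : X)⁆ = (a : X) * ⁅(a' : X), (b : X)⁆ * (a : X)⁻¹ * ⁅(a : X), (b : X)⁆ := by
            simp [commutatorElement_def, mul_assoc]
        _ = _ := by rw [h1, mul_inv_cancel_right],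
      map_mul, mul_assoc, hcs, mul_smul_comm, hcs, smul_smul]
  have hcone : ∀ a : Q₀, cs 1 a = 1 := fun a => huniq (by rw [← hcs, one_smul]; simp)
  have hcsq : ∀ a b : Q₀, cs a b = 1 ∨ cs a b = -1 := by
    intro a b
    refine mul_self_eq_one_iff.1 (huniq ?_)
    rw [← hcmul, ← hcs, one_smul]
    exact (hmemS _ (a * a : Q₀).2).1 (hsquares a a.2) b b.2
  have hcinv : ∀ a b : Q₀, cs b a * cs a b = 1 := by
    intro a b
    refine huniq ?_
    rw [one_smul, ← smul_smul, ← hcs a b, ← mul_smul_comm, ← hcs b a, ← mul_assoc, ← map_mul,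
      ← commutatorElement_inv, inv_mul_cancel, map_one, one_mul]
  let χ : Q₀ → Q₀ → ℤ := fun a b => if cs a b = 1 then 1 else -1
  have hneg : (-1 : K) ≠ 1 := fun h => h2K (by linear_combination -h)
  have hχl : ∀ a b d, χ (a * b) d = χ a d * χ b d := by
    intro a b d
    simp only [χ, hcmul]
    rcases hcsq a d with h | h <;> rcases hcsq b d with h' | h' <;> simp [h, h', hneg]
  have hsymm : ∀ a b, χ b a = χ a b := by
    intro a b
    simp only [χ]
    rcases hcsq a b with h | h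
    · rw [h, show cs b a = 1 by simpa [h] using hcinv a b]
    · rw [h, show cs b a = -1 by
        have := hcinv a b
        rw [h, mul_neg_one, neg_eq_iff_eq_neg] at this
        exact this]
  let T : MulAut Q₀ := Subgroup.normalizerMonoidHom Q₀ ⟨z, hzQ₀⟩
  have hTap : ∀ a : Q₀, ((T a : Q₀) : X) = z * a * z⁻¹ := fun a => rfl
  have hSsub : ∀ a : Q₀, a ∈ S.subgroupOf Q₀ ↔ ∀ b : Q₀, cs a b = 1 := fun a => by
    rw [Subgroup.mem_subgroupOf, hmemS _ a.2]
    exact ⟨fun h b => huniq (by rw [← hcs, one_smul, h b b.2]),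
      fun h b hb => by rw [hcs a ⟨b, hb⟩, h, one_smul]⟩
  have hcount := count_neg (S := S.subgroupOf Q₀) (T := T) (χ := χ) (p := p) (m := m) hp2
    (fun a b => by simp only [χ]; split_ifs <;> simp) hχl
    (fun a b d => by rw [hsymm (b * d) a, hχl, hsymm b a, hsymm d a])
    (fun a => by
      simp only [χ]
      rw [if_pos (huniq (by rw [← hcs, one_smul]; simp))])
    (fun a => by
      rw [hSsub]
      exact forall_congr' fun b => by simp only [χ]; split_ifs with h <;> simp [h])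
    (fun a b => by
      have h1 : cs (T a) (T b) = cs a b := by
        refine huniq ?_
        rw [← hcs, ← hcs, hTap, hTap, ← conjugate_commutatorElement,
          hZz _ (hcomZ _ a.2 _ b.2), mul_inv_cancel_right]
      simp only [χ, h1])
    (by
      refine MulEquiv.ext fun a => Subtype.ext ?_
      rw [show T ^ p = Subgroup.normalizerMonoidHom Q₀ (⟨z, hzQ₀⟩ ^ p) from (map_pow _ _ _).symm]
      show z ^ p * (a : X) * (z ^ p)⁻¹ = a
      rw [show z ^ p = 1 by rw [hz, ← pow_mul, ← pow_succ, hxn], one_mul, inv_one, mul_one])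
    (fun a ha => by
      rw [Subgroup.mem_subgroupOf] at ha ⊢
      exact hfree a a.2 ha)
    (fun h => by
      obtain ⟨b, hb⟩ := IsPGroup.iff_card.1 ((hQ₀.to_subgroup (S.subgroupOf Q₀)))
      rw [hb] at h
      exact hp2 ((Nat.prime_dvd_prime_iff_eq hp Nat.prime_two).1 (hp.dvd_of_dvd_pow h)))
    hidx (hmp ▸ dvd_pow_self p hj0)
  -- a fixed point of `O`
  set Y := {g : Q₀ // χ g (T g) = -1} with hY
  have hmemY : ∀ (s : O) (a : Q₀), ⟨(s : X) * a * (s : X)⁻¹, CoprimeAction.conj_mem (hAQ₀ (hOA s.2)) a.2⟩ =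
      Subgroup.normalizerMonoidHom Q₀ ⟨(s : X), hAQ₀ (hOA s.2)⟩ a := fun s a => rfl
  let act : O →* MulAut Q₀ :=
    (Subgroup.normalizerMonoidHom Q₀).comp (Subgroup.inclusion (hOA.trans hAQ₀))
  have hact : ∀ (s : O) (a : Q₀), ((act s a : Q₀) : X) = (s : X) * a * (s : X)⁻¹ := fun s a => rfl
  have hpres : ∀ (s : O) (a : Q₀), χ (act s a) (T (act s a)) = χ a (T a) := by
    intro s a
    have h1 : cs (act s a) (T (act s a)) = cs a (T a) := by
      refine huniq ?_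
      have h2 : z * ((s : X) * a * (s : X)⁻¹) * z⁻¹ = (s : X) * (z * a * z⁻¹) * (s : X)⁻¹ := by
        have h3 : Commute z (s : X) := hOz s s.2
        calc z * ((s : X) * a * (s : X)⁻¹) * z⁻¹ = (z * s) * a * (z * s)⁻¹ := by group
          _ = _ := by rw [h3.eq]; group
      rw [← hcs, ← hcs, hTap, hTap, hact, h2, ← conjugate_commutatorElement,
        hZO _ (hcomZ _ a.2 _ (show z * a * z⁻¹ ∈ Q₀ from (T a).2)) s s.2, mul_inv_cancel_right]
    simp only [χ, h1]
  letI : MulAction O Y :=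
    { smul := fun s a => ⟨act s a.1, by rw [hpres]; exact a.2⟩
      one_smul := fun a => Subtype.ext (by show act 1 a.1 = a.1; rw [map_one]; rfl)
      mul_smul := fun s s' a => Subtype.ext (by
        show act (s * s') a.1 = act s (act s' a.1); rw [map_mul]; rfl) }
  have hY : ¬ r ∣ Nat.card Y := by
    intro hd
    have h1 : r ∣ 2 * Nat.card Y := Dvd.dvd.mul_left hd 2
    rw [hcount, two_mul m, pow_add, show 2 ^ m * 2 ^ m + 2 ^ m = 2 ^ m * (2 ^ m + 1) by ring, hmp,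
      Nat.card_congr (Subgroup.subgroupOfEquivOfLe (show S ≤ Q₀ from blockKer_le)).toEquiv, haS] at h1
    rcases hr.dvd_mul.1 h1 with h2 | h2
    rcases hr.dvd_mul.1 h2 with h2 | h2
    · exact hr2 ((Nat.prime_dvd_prime_iff_eq hr Nat.prime_two).1 (hr.dvd_of_dvd_pow h2))
    · exact hrp ((Nat.prime_dvd_prime_iff_eq hr hp).1 (hr.dvd_of_dvd_pow h2))
    · exact hr2 ((Nat.prime_dvd_prime_iff_eq hr Nat.prime_two).1 (hr.dvd_of_dvd_pow h2))
  obtain ⟨⟨a, ha⟩, hafix⟩ := hO.nonempty_fixed_point_of_prime_not_dvd_card Y hY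
  have haS : (a : X) ∉ S := fun h => by
    have h1 := (hSsub a).1 h (T a)
    simp only [χ, if_pos h1] at ha
    omega
  set F := (Q₀ ⊓ Subgroup.centralizer (O : Set X)) ⊔ S with hF
  have haF : (a : X) ∈ F := by
    refine Subgroup.mem_sup_left ⟨a.2, Subgroup.mem_centralizer_iff.2 fun s hs => ?_⟩
    have h1 : act ⟨s, hs⟩ a = a := congrArg Subtype.val (hafix ⟨s, hs⟩)
    have h2 := congrArg Subtype.val h1
    rw [hact] at h2
    exact mul_inv_eq_iff_eq_mul.1 h2
  have hyF : y ∈ Subgroup.normalizer (F : Set X) := by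
    rw [← CoprimeAction.conj_smul_eq_self]
    show Subgroup.map (MulAut.conj y).toMonoidHom _ = _
    rw [hF, Subgroup.map_sup]
    congr 1
    · refine CoprimeAction.conj_smul_eq_self.2 (Subgroup.inf_normalizer_le_normalizer_inf ⟨hyQ, ?_⟩)
      refine CoprimeAction.mem_normalizer_of_conj_mem fun g hg => ?_
      rw [Subgroup.mem_centralizer_iff]
      intro b hb
      have hb' : y⁻¹ * b * y ∈ O := CoprimeAction.conj_mem' (Subgroup.pow_mem _ hxO _) hb
      calc b * (y * g * y⁻¹) = y * ((y⁻¹ * b * y) * g) * y⁻¹ := by group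
        _ = y * (g * (y⁻¹ * b * y)) * y⁻¹ := by rw [Subgroup.mem_centralizer_iff.1 hg _ hb']
        _ = _ := by group
    · exact CoprimeAction.conj_smul_eq_self.2 hyS
  rcases hirr F le_sup_right (sup_le inf_le_left blockKer_le) hyF with h | h
  · exact haS (h.le haF)
  have hsS : s₀ ∈ Subgroup.normalizer (S : Set X) := by
    refine blockKer_normalizer (hAQ₀ (hOA hs₀)) (commute_blk _ (fun b => ?_) l)
    obtain ⟨w, hw, hwb⟩ := b.2
    rw [← hwb]
    show ρ s₀ * ρ w = ρ w * ρ s₀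
    rw [← map_mul, ← map_mul, hZO w hw s₀ hs₀]
  let W : Subgroup X :=
    { carrier := {g | g ∈ Q₀ ∧ ⁅g, s₀⁆ ∈ S}
      one_mem' := ⟨Q₀.one_mem, by simp⟩
      inv_mem' := fun {g} hg => ⟨Q₀.inv_mem hg.1, by
        rw [show ⁅g⁻¹, s₀⁆ = g⁻¹ * (⁅g, s₀⁆)⁻¹ * g⁻¹⁻¹ by simp [commutatorElement_def, mul_assoc]]
        exact CoprimeAction.conj_mem (hSn _ (Q₀.inv_mem hg.1)) (S.inv_mem hg.2)⟩
      mul_mem' := fun {a b} ha hb => ⟨Q₀.mul_mem ha.1 hb.1, by
        rw [show ⁅a * b, s₀⁆ = a * ⁅b, s₀⁆ * a⁻¹ * ⁅a, s₀⁆ by simp [commutatorElement_def, mul_assoc]]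
        exact S.mul_mem (CoprimeAction.conj_mem (hSn a ha.1) hb.2) ha.2⟩ }
  have hFW : F ≤ W := by
    refine sup_le (fun g hg => ⟨hg.1, ?_⟩) fun g hg => ⟨blockKer_le hg, ?_⟩
    · rw [commutatorElement_eq_one_iff_mul_comm.2 (Subgroup.mem_centralizer_iff.1 hg.2 s₀ hs₀).symm]
      exact S.one_mem
    · rw [show ⁅g, s₀⁆ = g * (s₀ * g⁻¹ * s₀⁻¹) by simp [commutatorElement_def, mul_assoc]]
      exact S.mul_mem hg (CoprimeAction.conj_mem hsS (S.inv_mem hg))
  exact hc₀S (hFW (h.ge hg₀)).2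

end CfsgLib.ShultGross
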