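/-
The layer argument of the Shult-Gross theorem for odd primes.
-/
import Mathlib
import Cfsg.Agent.Lib.ShultGross.Exceptional
import Cfsg.Agent.Lib.Subnormal.NilpotentResidual
import Cfsg.Agent.Lib.Cores.Fitting
import Cfsg.Agent.Lib.Cores.Basic
import Cfsg.Agent.Lib.CoprimeAction.Sylow

set_option autoImplicit false
set_option linter.style.haveILetI false
set_option linter.unusedSectionVars false

open scoped commutatorElement

namespace CfsgLib.ShultGross

open Cfsg CfsgLib.Cores CfsgLib.Subnormal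

universe u v w

/-- The action on the Frattini quotient of a normal `q`-subgroup, with scalars extended. -/
theorem exists_rep {G : Type w} [Group G] [Finite G] {q : ℕ} [Fact q.Prime] (P : Subgroup G)
    [hPn : P.Normal] (hP : IsPGroup q P) :
    ∃ (d : ℕ) (r : P → (Fin d → AlgebraicClosure (ZMod q)))
      (ρ : G →* Module.End (AlgebraicClosure (ZMod q)) (Fin d → AlgebraicClosure (ZMod q))),
      (∀ a b, r (a * b) = r a + r b) ∧
      (∀ (g : G) (x : P), r ⟨g * x * g⁻¹, hPn.conj_mem _ x.2 g⟩ = ρ g (r x)) ∧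
      Submodule.span (AlgebraicClosure (ZMod q)) (Set.range r) = ⊤ ∧
      ∀ g : G, ρ g = 1 ↔ ∀ x ∈ P, x⁻¹ * (g * x * g⁻¹) ∈ (frattini P).map P.subtype := by
  classical
  set Φ := frattini P with hΦ
  have hcomm : ∀ a b : P ⧸ Φ, a * b = b * a := fun a b => by
      induction a using QuotientGroup.induction_on with | _ a =>
      induction b using QuotientGroup.induction_on with | _ b =>
      rw [← QuotientGroup.mk_mul, ← QuotientGroup.mk_mul, QuotientGroup.eq]
      have hc := CfsgLib.PGroups.commutator_le_frattini hP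
        (Subgroup.commutator_mem_commutator (Subgroup.mem_top b⁻¹) (Subgroup.mem_top a⁻¹))
      simpa [commutatorElement_def, mul_assoc] using hc
  letI : CommGroup (P ⧸ Φ) := { (inferInstance : Group (P ⧸ Φ)) with mul_comm := hcomm }
  have hexpA : ∀ a : Additive (P ⧸ Φ), q • a = 0 := fun a => by
    obtain ⟨x, hx⟩ := QuotientGroup.mk_surjective (Additive.toMul a)
    show Additive.ofMul ((Additive.toMul a) ^ q) = 0
    rw [← hx, ← QuotientGroup.mk_pow,
      (QuotientGroup.eq_one_iff _).2 (CfsgLib.PGroups.pow_mem_frattini hP x)]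
    rfl
  obtain ⟨d, co, N, hco, hN, hcoN, hspan⟩ := HallHigmanExc.exists_coordinates hexpA
  let cl : P → Additive (P ⧸ Φ) := fun x => Additive.ofMul (x : P ⧸ Φ)
  have hcls : Function.Surjective cl := fun a => by
    obtain ⟨x, hx⟩ := QuotientGroup.mk_surjective (Additive.toMul a)
    exact ⟨x, congrArg Additive.ofMul hx⟩
  have hΦi : ∀ g : G, Φ ≤ Φ.comap (MulAut.conjNormal g : MulAut P).toMonoidHom := fun g x hx =>
    (Subgroup.characteristic_iff_map_le.1 (inferInstance : Φ.Characteristic) (MulAut.conjNormal g))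
      ⟨x, hx, rfl⟩
  let act : G → AddMonoid.End (Additive (P ⧸ Φ)) := fun g =>
    MonoidHom.toAdditive (QuotientGroup.map Φ Φ (MulAut.conjNormal g : MulAut P).toMonoidHom
      (hΦi g))
  have hact : ∀ g x, act g (cl x) = cl ((MulAut.conjNormal g : MulAut P) x) := fun g x => rfl
  let ψ : G →* AddMonoid.End (Additive (P ⧸ Φ)) :=
    { toFun := act
      map_one' := AddMonoidHom.ext fun a => by
        obtain ⟨x, rfl⟩ := hcls a
        refine (hact 1 x).trans ?_
        rw [map_one]; rfl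
      map_mul' := fun g h => AddMonoidHom.ext fun a => by
        obtain ⟨x, rfl⟩ := hcls a
        refine (hact (g * h) x).trans ?_
        rw [map_mul]
        show _ = act g (act h (cl x))
        rw [hact, hact]; rfl }
  refine ⟨d, fun x => co (cl x), N.comp ψ, fun a b => map_add co (cl a) (cl b), fun g x => ?_, ?_,
    fun g => ?_⟩
  · show co (cl _) = N (act g) (co (cl x))
    rw [← hcoN, hact]
    exact congrArg (fun y => co (cl y)) (Subtype.ext (MulAut.conjNormal_apply g x).symm)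
  · rw [← hspan]
    exact congrArg _ (hcls.range_comp co)
  · have h1 : ∀ x : P, act g (cl x) = cl x ↔
        (x : G)⁻¹ * (g * x * g⁻¹) ∈ Φ.map P.subtype := by
      intro x
      rw [hact]
      show ((((MulAut.conjNormal g : MulAut P) x : P) : P ⧸ Φ) = (x : P ⧸ Φ)) ↔ _
      rw [eq_comm, QuotientGroup.eq]
      constructor
      · intro h
        exact ⟨_, h, by simp [MulAut.conjNormal_apply]⟩
      · rintro ⟨y, hy, he⟩
        rwa [show x⁻¹ * (MulAut.conjNormal g : MulAut P) x = y from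
          Subtype.ext (by simpa [MulAut.conjNormal_apply] using he.symm)]
    rw [MonoidHom.comp_apply]
    constructor
    · intro h x hx
      refine (h1 ⟨x, hx⟩).1 ?_
      have h2 : ψ g = 1 := hN (by rw [h, map_one])
      exact DFunLike.congr_fun h2 (cl ⟨x, hx⟩)
    · intro h
      rw [show ψ g = 1 from AddMonoidHom.ext fun a => by
        obtain ⟨x, rfl⟩ := hcls a
        exact (h1 x).2 (h x x.2), map_one]

/-- An element without fixed points on `P` has none on the module. -/
theorem fixed_zero {G : Type w} [Group G] [Finite G] {P : Subgroup G} [hPn : P.Normal] {K : Type u}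
    [Field K] {V : Type v} [AddCommGroup V] [Module K V] [FiniteDimensional K V] {r : P → V}
    {ρ : G →* Module.End K V} (hr : ∀ a b, r (a * b) = r a + r b)
    (hρ : ∀ (g : G) (x : P), r ⟨g * x * g⁻¹, hPn.conj_mem _ x.2 g⟩ = ρ g (r x))
    (hspan : Submodule.span K (Set.range r) = ⊤) {x : G}
    (hx : ∀ a ∈ P, x * a * x⁻¹ = a → a = 1) : ∀ v, ρ x v = v → v = 0 := by
  have hsurj : ∀ b : P, ∃ a : P, a⁻¹ * ⟨x * a * x⁻¹, hPn.conj_mem _ a.2 x⟩ = b := by
    refine Finite.injective_iff_surjective.1 fun a a' h => ?_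
    have h1 : (a : G)⁻¹ * (x * a * x⁻¹) = (a' : G)⁻¹ * (x * a' * x⁻¹) := congrArg Subtype.val h
    have h2 : x * ((a' : G) * (a : G)⁻¹) * x⁻¹ = (a' : G) * (a : G)⁻¹ := by
      calc x * ((a' : G) * (a : G)⁻¹) * x⁻¹
          = (a' : G) * ((a' : G)⁻¹ * (x * a' * x⁻¹)) * (x * a * x⁻¹)⁻¹ := by group
        _ = (a' : G) * ((a : G)⁻¹ * (x * a * x⁻¹)) * (x * a * x⁻¹)⁻¹ := by rw [h1]
        _ = _ := by group
    exact Subtype.ext (mul_inv_eq_one.1 (hx _ (P.mul_mem a'.2 (P.inv_mem a.2)) h2)).symm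
  have h1 : r 1 = 0 := by
    have h := hr 1 1
    rwa [mul_one, left_eq_add] at h
  have hinv : ∀ a, r a⁻¹ = -r a := fun a => by
    have h := hr a⁻¹ a
    rw [inv_mul_cancel, h1] at h
    exact eq_neg_of_add_eq_zero_left h.symm
  have htop : LinearMap.range (ρ x - 1) = ⊤ := by
    rw [eq_top_iff, ← hspan, Submodule.span_le]
    rintro _ ⟨b, rfl⟩
    obtain ⟨a, rfl⟩ := hsurj b
    refine ⟨r a, ?_⟩
    rw [hr, hinv, hρ, LinearMap.sub_apply, Module.End.one_apply]
    abel
  have hker : LinearMap.ker (ρ x - 1) = ⊥ :=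
    LinearMap.ker_eq_bot_iff_range_eq_top.2 htop
  intro v hv
  rw [← Submodule.mem_bot (R := K), ← hker, LinearMap.mem_ker, LinearMap.sub_apply,
    Module.End.one_apply, hv, sub_self]

variable {X : Type w} [Group X] [Finite X]

theorem not_dvd_of_le {p : ℕ} {H Y : Subgroup X} (h : Y ≤ H) (hp : ¬ p ∣ Nat.card H) :
    ¬ p ∣ Nat.card Y := fun hd => hp (hd.trans (Subgroup.card_dvd_of_le h))

/-- An `r`-element of the Fitting subgroup lies in the `r`-core. -/
theorem mem_pCore_of_mem_fitting {W : Type w} [Group W] [Finite W] {r : ℕ} [Fact r.Prime] {g : W}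
    (hg : g ∈ fittingSubgroup W) (hr : ∃ k, g ^ r ^ k = 1) : g ∈ pCore r W := by
  haveI := isNilpotent_fittingSubgroup (G := W)
  obtain ⟨k, hk⟩ := hr
  have hz : IsPGroup r (Subgroup.zpowers (⟨g, hg⟩ : fittingSubgroup W)) := by
    refine IsPGroup.of_card_dvd_pow (n := k) ?_
    rw [Nat.card_zpowers, Subgroup.orderOf_mk]
    exact orderOf_dvd_of_pow_eq_one hk
  obtain ⟨P, hP⟩ := hz.exists_le_sylow
  haveI : (P : Subgroup (fittingSubgroup W)).Characteristic :=
    Sylow.characteristic_of_normal P inferInstance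
  haveI := normal_map_subtype (fittingSubgroup W) (P : Subgroup (fittingSubgroup W))
  exact le_pCore (P.2.map (fittingSubgroup W).subtype) ⟨_, hP (Subgroup.mem_zpowers _), rfl⟩

/-- A subgroup normalized by `H` and centralized by `z` is centralized by `[H, z]`. -/
theorem commutator_le_centralizer_of_centralized {H Y : Subgroup X} {z : X}
    (hY : H ≤ Subgroup.normalizer (Y : Set X)) (hYz : ∀ y ∈ Y, z * y = y * z) :
    ⁅H, Subgroup.zpowers z⁆ ≤ Subgroup.centralizer (Y : Set X) := by
  refine Subgroup.commutator_le.2 fun h hh d hd => Subgroup.mem_centralizer_iff.2 fun y hy => ?_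
  obtain ⟨i, rfl⟩ := Subgroup.mem_zpowers_iff.1 hd
  have hc : ∀ y' ∈ Y, Commute (z ^ i) y' := fun y' hy' =>
    (show Commute z y' from hYz y' hy').zpow_left i
  have hy' : h⁻¹ * y * h ∈ Y := CoprimeAction.conj_mem' (hY hh) hy
  have h1 : (z ^ i)⁻¹ * y = y * (z ^ i)⁻¹ := (hc y hy).inv_left.eq
  have h2 : z ^ i * (h⁻¹ * y * h) = h⁻¹ * y * h * z ^ i := hc _ hy'
  calc y * ⁅h, z ^ i⁆ = h * ((h⁻¹ * y * h) * z ^ i) * h⁻¹ * (z ^ i)⁻¹ := by
        simp [commutatorElement_def, mul_assoc]
    _ = h * (z ^ i * (h⁻¹ * y * h)) * h⁻¹ * (z ^ i)⁻¹ := by rw [h2]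
    _ = h * z ^ i * h⁻¹ * (y * (z ^ i)⁻¹) := by group
    _ = h * z ^ i * h⁻¹ * ((z ^ i)⁻¹ * y) := by rw [h1]
    _ = ⁅h, z ^ i⁆ * y := by simp [commutatorElement_def, mul_assoc]

/-- What normalizes a subgroup normalizes its characteristic subgroups. -/
theorem le_normalizer_map_char {N A : Subgroup X} (hA : A ≤ Subgroup.normalizer (N : Set X))
    (C : Subgroup N) [C.Characteristic] :
    A ≤ Subgroup.normalizer (C.map N.subtype : Set X) := by
  intro a ha
  refine CoprimeAction.mem_normalizer_of_conj_mem ?_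
  rintro _ ⟨c, hc, rfl⟩
  exact ⟨Subgroup.normalizerMonoidHom N ⟨a, hA ha⟩ c,
    (Subgroup.characteristic_iff_map_le.1 (inferInstance : C.Characteristic) _) ⟨c, hc, rfl⟩, rfl⟩

/-- The layer argument. -/
theorem key {p n : ℕ} [Fact p.Prime] (hp2 : p ≠ 2) {H : Subgroup X} [H.Normal]
    [Group.IsSolvable H] {x : X} (hxn : x ^ p ^ (n + 1) = 1)
    (hfixH : ∀ h ∈ H, x * h * x⁻¹ = h → h = 1) (hpH : ¬ p ∣ Nat.card H) {q : ℕ} [Fact q.Prime]
    (hqp : q ≠ p) (hqH : ∀ N : Subgroup X, N.Normal → N ≤ H → IsPGroup q N → N = ⊥)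
    {K : Type u} [Field K] [IsAlgClosed K] [CharP K q] {V : Type v} [AddCommGroup V] [Module K V]
    [FiniteDimensional K V] (ρ : X →* Module.End K V) (hfix : ∀ v, ρ x v = v → v = 0)
    (hfaith : ∀ h ∈ H, ρ h = 1 → h = 1)
    (IH : ∀ Y : Subgroup X, Y ≤ H → x ∈ Subgroup.normalizer (Y : Set X) →
      (∀ h ∈ Y, x ^ p ^ n * h = h * x ^ p ^ n) → fitRes n Y = ⊥) : fitRes n H = ⊥ := by
  classical
  have hp : p.Prime := Fact.out
  haveI : Fact (Nat.Prime 2) := ⟨Nat.prime_two⟩
  set z := x ^ p ^ n with hz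
  have hrK : ∀ r : ℕ, r.Prime → r ≠ q → (r : K) ≠ 0 := fun r hr hrq h =>
    hrq ((Nat.prime_dvd_prime_iff_eq Fact.out hr).1 ((CharP.cast_eq_zero_iff K q r).1 h)).symm
  have hxH : x ∈ Subgroup.normalizer (H : Set X) := by
    rw [Subgroup.normalizer_eq_top]; exact Subgroup.mem_top x
  have hbot : ∀ Y : Subgroup X, Y ≤ H → IsPGroup p Y → Y = ⊥ := by
    intro Y hY hYp
    obtain ⟨j, hj⟩ := IsPGroup.iff_card.1 hYp
    rcases j with _ | j
    · exact Subgroup.eq_bot_of_card_eq _ (by simpa using hj)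
    · exact absurd (hj ▸ dvd_pow_self p (Nat.succ_ne_zero j)) (not_dvd_of_le hY hpH)
  -- invariant `r`-subgroups, `r` odd and different from `q`
  have hodd : ∀ (r : ℕ) [Fact r.Prime], r ≠ 2 → r ≠ q → ∀ Q : Subgroup X, Q ≤ H → IsPGroup r Q →
      x ∈ Subgroup.normalizer (Q : Set X) → ∀ g ∈ Q, z * g = g * z := by
    intro r _ hr2 hrq Q hQH hQ hxQ g hg
    by_cases hrp : r = p
    · subst hrp
      rw [hbot Q hQH hQ, Subgroup.mem_bot] at hg
      rw [hg, mul_one, one_mul]
    · exact odd_centralized hp2 hxn hfix (hrK r Fact.out hrq) hrp hr2 hQ hxQ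
        (fun g hg => hfaith g (hQH hg)) g hg
  -- the cores
  let core : ℕ → Subgroup X := fun r => (pCore r H).map H.subtype
  have hcoreN : ∀ r, (core r).Normal := fun r => normal_map_subtype H (pCore r H)
  have hcoreH : ∀ r, core r ≤ H := fun r => Subgroup.map_subtype_le _
  have hcoreP : ∀ r, IsPGroup r (core r) := fun r => (isPGroup_pCore r H).map _
  have hcoreq : core q = ⊥ := hqH _ (hcoreN q) (hcoreH q) (hcoreP q)
  have hcorez : ∀ r : ℕ, r.Prime → r ≠ 2 → ∀ g ∈ core r, z * g = g * z := by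
    intro r hr hr2 g hg
    haveI := Fact.mk hr
    by_cases hrq : r = q
    · subst hrq
      rw [hcoreq, Subgroup.mem_bot] at hg
      rw [hg, mul_one, one_mul]
    · exact hodd r hr2 hrq _ (hcoreH r) (hcoreP r)
        (by haveI := hcoreN r; rw [Subgroup.normalizer_eq_top]; exact Subgroup.mem_top x) g hg
  set D := H ⊓ Subgroup.centralizer ({z} : Set X) with hD
  set R := core 2 with hR
  haveI hRn : R.Normal := hcoreN 2
  set Oall : Subgroup X := ⨆ r : {r : ℕ // r.Prime ∧ r ≠ 2}, core r.1 with hOall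
  have hOz : ∀ g ∈ Oall, z * g = g * z := fun g hg =>
    (Subgroup.mem_centralizer_singleton_iff.1
      ((iSup_le fun r c hc => Subgroup.mem_centralizer_singleton_iff.2
        (hcorez r.1 r.2.1 r.2.2 c hc).symm : Oall ≤ Subgroup.centralizer {z}) hg)).symm
  set F := (fittingSubgroup H).map H.subtype with hF
  haveI hFn : F.Normal := normal_map_subtype H (fittingSubgroup H)
  have hFH : F ≤ H := Subgroup.map_subtype_le _
  have hFle : F ≤ R ⊔ Oall := by
    rw [hF, fittingSubgroup_eq_iSup_pCore, Subgroup.map_iSup]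
    refine iSup_le fun r => ?_
    by_cases h : (r : ℕ) = 2
    · rw [h]; exact le_sup_left
    · exact le_sup_of_le_right
        (le_iSup (fun r : {r : ℕ // r.Prime ∧ r ≠ 2} => core r.1)
          ⟨r, Nat.prime_of_mem_primeFactors r.2, h⟩)
  have hself : ∀ g ∈ H, (∀ c ∈ F, c * g = g * c) → g ∈ F := fun g hg hc =>
    ⟨⟨g, hg⟩, centralizer_fittingSubgroup_le (Subgroup.mem_centralizer_iff.2 fun c hc' =>
      Subtype.ext (hc _ ⟨c, hc', rfl⟩)), rfl⟩
  have hFmem : ∀ {r : ℕ} [Fact r.Prime] {g : X}, g ∈ F → (∃ k, g ^ r ^ k = 1) → g ∈ core r := by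
    rintro r _ _ ⟨g, hg, rfl⟩ ⟨k, hk⟩
    exact ⟨g, mem_pCore_of_mem_fitting hg ⟨k, Subtype.ext hk⟩, rfl⟩
  set M := ⁅H, Subgroup.zpowers z⁆ with hM
  have hzH : Subgroup.zpowers z ≤ Subgroup.normalizer (H : Set X) := by
    rw [Subgroup.normalizer_eq_top]; exact le_top
  have hMH : M ≤ H := CoprimeAction.commutator_le_left hzH
  have hHM : H ≤ Subgroup.normalizer (M : Set X) :=
    le_sup_left.trans (CoprimeAction.sup_le_normalizer_commutator (Subgroup.zpowers z) H)
  have hMO : M ≤ Subgroup.centralizer (Oall : Set X) := by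
    refine commutator_le_centralizer_of_centralized ?_ hOz
    haveI : Oall.Normal := by
      rw [← Subgroup.normalizer_eq_top_iff, eq_top_iff]
      intro g _
      rw [← CoprimeAction.conj_smul_eq_self]
      show Subgroup.map (MulAut.conj g).toMonoidHom _ = _
      rw [hOall, Subgroup.map_iSup]
      exact iSup_congr fun r => by
        haveI := hcoreN r.1
        exact CoprimeAction.conj_smul_eq_self.2 (by rw [Subgroup.normalizer_eq_top]; trivial)
    rw [Subgroup.normalizer_eq_top]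
    exact le_top
  have hcop : ∀ Y : Subgroup X, Y ≤ H → ∀ (a : X), a ^ p ^ (n + 1) = 1 →
      (Nat.card (Subgroup.zpowers a)).Coprime (Nat.card Y) := fun Y hY a ha => by
    rw [Nat.card_zpowers]
    exact ((hp.coprime_iff_not_dvd.2 (not_dvd_of_le hY hpH)).pow_left (n + 1)).coprime_dvd_left
      (orderOf_dvd_of_pow_eq_one ha)
  have hzn : z ^ p ^ (n + 1) = 1 := by
    rw [hz, ← pow_mul, mul_comm, pow_mul, hxn, one_pow]
  -- invariant Sylow subgroups of odd order are centralized
  have hsyl : ∀ (r : ℕ) [Fact r.Prime], r ≠ 2 → ∃ T : Sylow r H,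
      ∀ t : H, t ∈ (T : Subgroup H) → z * (t : X) = t * z := by
    intro r _ hr2
    obtain ⟨T, hT⟩ := CoprimeAction.exists_invariant_sylow (A := Subgroup.zpowers x) (K := H)
      (Subgroup.zpowers_le.2 hxH) (hcop H le_rfl x hxn)
      (Or.inl (CoprimeAction.isSolvable_zpowers x)) r
    refine ⟨T, fun t ht => ?_⟩
    set Q := (T : Subgroup H).map H.subtype with hQ
    have hQH : Q ≤ H := Subgroup.map_subtype_le _
    have hQp : IsPGroup r Q := T.2.map _
    have hxQ : x ∈ Subgroup.normalizer (Q : Set X) := hT (Subgroup.mem_zpowers x)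
    have htQ : (t : X) ∈ Q := ⟨t, ht, rfl⟩
    by_cases hrq : r = q
    swap
    · exact hodd r hr2 hrq Q hQH hQp hxQ _ htQ
    subst hrq
    set T0 := ⁅Q, Subgroup.zpowers z⁆ with hT0
    have hzQ : Subgroup.zpowers z ≤ Subgroup.normalizer (Q : Set X) :=
      Subgroup.zpowers_le.2 (Subgroup.pow_mem _ hxQ _)
    have hT0Q : T0 ≤ Q := CoprimeAction.commutator_le_left hzQ
    have hxT0 : x ∈ Subgroup.normalizer (T0 : Set X) := by
      rw [← CoprimeAction.conj_smul_eq_self]
      show Subgroup.map (MulAut.conj x).toMonoidHom _ = _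
      rw [hT0, Subgroup.map_commutator]
      congr 1
      · exact CoprimeAction.conj_smul_eq_self.2 hxQ
      · rw [MonoidHom.map_zpowers]
        show Subgroup.zpowers (x * z * x⁻¹) = _
        rw [hz, ← pow_succ', pow_succ, mul_inv_cancel_right]
    obtain ⟨d, rf, ρ₂, hr₂, hρ₂, hspan₂, hker₂⟩ := exists_rep R (hcoreP 2)
    have hfix₂ := fixed_zero hr₂ hρ₂ hspan₂ (x := x) fun a ha => hfixH a (hcoreH 2 ha)
    have hfaith₂ : ∀ g ∈ T0, ρ₂ g = 1 → g = 1 := by
      intro g hg hg1
      have hgr : ∃ k, g ^ r ^ k = 1 := by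
        obtain ⟨k, hk⟩ := hQp ⟨g, hT0Q hg⟩
        exact ⟨k, congrArg Subtype.val hk⟩
      have hzg : Subgroup.zpowers g ≤ Subgroup.centralizer (R : Set X) := by
        refine CoprimeAction.le_centralizer_of_frattini
          (by rw [Subgroup.normalizer_eq_top]; exact le_top) ?_ ?_
        · obtain ⟨k, hk⟩ := hgr
          obtain ⟨j, hj⟩ := IsPGroup.iff_card.1 ((hcoreP 2).to_subgroup (frattini R))
          rw [hj, Nat.card_zpowers]
          exact ((Nat.coprime_primes Fact.out Nat.prime_two).2 hr2).pow k j |>.coprime_dvd_left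
            (orderOf_dvd_of_pow_eq_one hk)
        · intro a ha k hk
          refine (hker₂ a).1 ?_ k hk
          obtain ⟨i, rfl⟩ := Subgroup.mem_zpowers_iff.1 ha
          exact (MonoidHom.mem_ker).1 (Subgroup.zpow_mem _ (MonoidHom.mem_ker.2 hg1) i)
      have hgR := hzg (Subgroup.mem_zpowers g)
      have hgM : g ∈ M := Subgroup.commutator_mono hQH le_rfl hg
      have hgF : g ∈ F := hself g (hMH hgM) fun c hc => Subgroup.mem_centralizer_singleton_iff.1
        ((sup_le (fun a ha => Subgroup.mem_centralizer_singleton_iff.2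
            (Subgroup.mem_centralizer_iff.1 hgR a ha))
          fun a ha => Subgroup.mem_centralizer_singleton_iff.2
            (Subgroup.mem_centralizer_iff.1 (hMO hgM) a ha) :
          R ⊔ Oall ≤ Subgroup.centralizer {g}) (hFle hc))
      have := hFmem (r := r) hgF hgr
      rwa [hcoreq, Subgroup.mem_bot] at this
    have h2K : (r : AlgebraicClosure (ZMod 2)) ≠ 0 := by
      rw [Ne, CharP.cast_eq_zero_iff (AlgebraicClosure (ZMod 2)) 2]
      exact fun h => hr2 ((Nat.prime_dvd_prime_iff_eq Nat.prime_two Fact.out).1 h).symm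
    have hcz := odd_centralized hp2 hxn hfix₂ h2K hqp hr2 (hQp.to_le hT0Q) hxT0 hfaith₂
    have h1 : ⁅T0, Subgroup.zpowers z⁆ = ⊥ := by
      rw [Subgroup.commutator_eq_bot_iff_le_centralizer]
      intro g hg
      refine Subgroup.mem_centralizer_iff.2 fun a ha => ?_
      obtain ⟨i, rfl⟩ := Subgroup.mem_zpowers_iff.1 ha
      exact ((show Commute z g from hcz g hg).zpow_left i).eq
    rw [hT0, CoprimeAction.commutator_commutator_eq hzQ (hcop Q hQH z hzn)
      (Or.inl (CoprimeAction.isSolvable_zpowers z)),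
      Subgroup.commutator_eq_bot_iff_le_centralizer] at h1
    exact Subgroup.mem_centralizer_iff.1 (h1 htQ) z (Subgroup.mem_zpowers z)
  -- generation by a Sylow 2-subgroup and `D`
  obtain ⟨T2, hT2⟩ := CoprimeAction.exists_invariant_sylow (A := Subgroup.zpowers x) (K := H)
    (Subgroup.zpowers_le.2 hxH) (hcop H le_rfl x hxn)
    (Or.inl (CoprimeAction.isSolvable_zpowers x)) 2
  have hgenH : H ≤ (T2 : Subgroup H).map H.subtype ⊔ D := by
    set S := (T2 : Subgroup H).map H.subtype ⊔ D with hS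
    have hle : ∀ (r : ℕ) [Fact r.Prime], ∃ T : Sylow r H, (T : Subgroup H) ≤ S.subgroupOf H := by
      intro r _
      by_cases h : r = 2
      · subst h
        exact ⟨T2, fun t ht => le_sup_left (a := (T2 : Subgroup H).map H.subtype) (b := D)
          ⟨t, ht, rfl⟩⟩
      · obtain ⟨T, hT⟩ := hsyl r h
        exact ⟨T, fun t ht => (le_sup_right : D ≤ S)
          ⟨t.2, Subgroup.mem_centralizer_singleton_iff.2 (hT t ht).symm⟩⟩
    rw [← Subgroup.subgroupOf_eq_top]
    refine Subgroup.eq_top_of_card_eq _ (Nat.dvd_antisymm (Subgroup.card_subgroup_dvd_card _) ?_)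
    refine (Nat.dvd_iff_prime_pow_dvd_dvd _ _).2 fun r k hr hrk => ?_
    haveI := Fact.mk hr
    obtain ⟨T, hT⟩ := hle r
    refine dvd_trans ?_ (Subgroup.card_dvd_of_le hT)
    rw [T.card_eq_multiplicity]
    exact pow_dvd_pow r ((hr.pow_dvd_iff_le_factorization Nat.card_pos.ne').1 hrk)
  set G2 := Subgroup.closure {g : X | g ∈ M ∧ ∃ k : ℕ, g ^ 2 ^ k = 1} with hG2
  have hMgen : M ≤ G2 := by
    have hn : ∀ a ∈ H, ∀ g ∈ G2, a * g * a⁻¹ ∈ G2 := by
      intro a ha g hg
      induction hg using Subgroup.closure_induction with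
      | mem g hg =>
        refine Subgroup.subset_closure ⟨CoprimeAction.conj_mem (hHM ha) hg.1, ?_⟩
        obtain ⟨k, hk⟩ := hg.2
        exact ⟨k, by rw [conj_pow, hk, mul_one, mul_inv_cancel]⟩
      | one => simp
      | mul g g' _ _ hg hg' =>
        rw [show a * (g * g') * a⁻¹ = a * g * a⁻¹ * (a * g' * a⁻¹) by group]
        exact mul_mem hg hg'
      | inv g _ hg =>
        rw [show a * g⁻¹ * a⁻¹ = (a * g * a⁻¹)⁻¹ by group]
        exact inv_mem hg
    let S : Subgroup X :=
      { carrier := {h | h ∈ H ∧ ∀ d ∈ Subgroup.zpowers z, ⁅h, d⁆ ∈ G2}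
        one_mem' := ⟨H.one_mem, fun d _ => by simp⟩
        mul_mem' := fun {a b} ha hb => ⟨H.mul_mem ha.1 hb.1, fun d hd => by
          rw [show ⁅a * b, d⁆ = a * ⁅b, d⁆ * a⁻¹ * ⁅a, d⁆ by simp [commutatorElement_def, mul_assoc]]
          exact G2.mul_mem (hn a ha.1 _ (hb.2 d hd)) (ha.2 d hd)⟩
        inv_mem' := fun {a} ha => ⟨H.inv_mem ha.1, fun d hd => by
          rw [show ⁅a⁻¹, d⁆ = a⁻¹ * ⁅a, d⁆⁻¹ * a⁻¹⁻¹ by simp [commutatorElement_def, mul_assoc]]
          exact hn _ (H.inv_mem ha.1) _ (G2.inv_mem (ha.2 d hd))⟩ }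
    have hHS : H ≤ S := by
      refine hgenH.trans (sup_le ?_ fun h hh => ⟨hh.1, fun d hd => ?_⟩)
      · rintro _ ⟨t, ht, rfl⟩
        refine ⟨t.2, fun d hd => ?_⟩
        have hzT : Subgroup.zpowers z ≤
            Subgroup.normalizer ((T2 : Subgroup H).map H.subtype : Set X) :=
          Subgroup.zpowers_le.2 (Subgroup.pow_mem _ (hT2 (Subgroup.mem_zpowers x)) _)
        obtain ⟨k, hk⟩ := (T2.2.map H.subtype) ⟨_, CoprimeAction.commutator_le_left hzT
          (Subgroup.commutator_mem_commutator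
            (⟨t, ht, rfl⟩ : (t : X) ∈ (T2 : Subgroup H).map H.subtype) hd)⟩
        exact Subgroup.subset_closure
          ⟨Subgroup.commutator_mem_commutator t.2 hd, k, congrArg Subtype.val hk⟩
      · have hcm : ⁅h, d⁆ = 1 := by
          obtain ⟨i, rfl⟩ := Subgroup.mem_zpowers_iff.1 hd
          exact commutatorElement_eq_one_iff_mul_comm.2
            ((show Commute h z from Subgroup.mem_centralizer_singleton_iff.1 hh.2).zpow_right i)
        rw [hcm]
        exact G2.one_mem
    exact Subgroup.commutator_le.2 fun h hh d hd => (hHS hh).2 d hd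
  -- the quotient by the Fitting subgroup
  set f := QuotientGroup.mk' F with hf
  set Hb := H.map f with hHb
  haveI : Hb.Normal := Subgroup.Normal.map inferInstance f (QuotientGroup.mk'_surjective F)
  haveI : Group.IsSolvable Hb := Group.isSolvable_of_surjective (f.subgroupMap_surjective H)
  set Mb := M.map f with hMb
  have hMbH : Mb ≤ Hb := Subgroup.map_mono hMH
  have hHMb : Hb ≤ Subgroup.normalizer (Mb : Set (X ⧸ F)) := by
    rintro _ ⟨h, hh, rfl⟩
    exact Subgroup.le_normalizer_map f (Subgroup.mem_map_of_mem f (hHM hh))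
  let coreb : ℕ → Subgroup (X ⧸ F) := fun r => (pCore r Hb).map Hb.subtype
  have hcbN : ∀ r, (coreb r).Normal := fun r => normal_map_subtype Hb (pCore r Hb)
  have hpre : ∀ g ∈ M, f g ∈ coreb 2 → g ∈ F := by
    set P := M ⊓ (coreb 2).comap f with hP
    have hPH : P ≤ H := inf_le_left.trans hMH
    suffices h : P ≤ F from fun g hgM hg => h ⟨hgM, hg⟩
    haveI : (P.subgroupOf H).Normal := ⟨fun a ha b => by
      refine ⟨CoprimeAction.conj_mem (hHM b.2) ha.1, ?_⟩
      show f ((b : X) * a * (b : X)⁻¹) ∈ coreb 2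
      rw [map_mul, map_mul, map_inv]
      exact (hcbN 2).conj_mem _ ha.2 (f b)⟩
    have hnil : Group.IsNilpotent (P.subgroupOf H) := by
      refine Group.of_quotient_center_nilpotent (IsPGroup.isNilpotent (p := 2) fun u => ?_)
      induction u using QuotientGroup.induction_on with | _ u =>
      obtain ⟨a, ha⟩ := ((isPGroup_pCore 2 Hb).map Hb.subtype) ⟨_, u.2.2⟩
      have haF : ((u : H) : X) ^ 2 ^ a ∈ F := by
        rw [← QuotientGroup.eq_one_iff]
        exact congrArg Subtype.val ha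
      obtain ⟨r, hr, o, ho, hro⟩ := Subgroup.mem_sup_of_normal_left.1 (hFle haF)
      obtain ⟨b, hb⟩ := hcoreP 2 ⟨r, hr⟩
      refine ⟨a + b, ?_⟩
      rw [← QuotientGroup.mk_pow, QuotientGroup.eq_one_iff, Subgroup.mem_center_iff]
      intro w
      refine Subtype.ext (Subtype.ext ?_)
      show ((w : H) : X) * ((u : H) : X) ^ 2 ^ (a + b) = ((u : H) : X) ^ 2 ^ (a + b) * ((w : H) : X)
      have hrc : Commute r o := by
        refine ((Subgroup.mem_centralizer_iff.1 ((show Oall ≤ Subgroup.centralizer (R : Set X) from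
          iSup_le fun i c hc => Subgroup.mem_centralizer_iff.2 fun c' hc' => ?_) ho) r hr))
        haveI := Fact.mk i.2.1
        obtain ⟨c, hc, rfl⟩ := hc
        obtain ⟨c', hc', rfl⟩ := hc'
        rw [← map_mul, ← map_mul, (commute_pCore_of_ne i.2.2.symm hc' hc).eq]
      have hrb : r ^ 2 ^ b = 1 := congrArg Subtype.val hb
      rw [pow_add, pow_mul, ← hro, hrc.mul_pow, hrb, one_mul]
      exact (Subgroup.mem_centralizer_iff.1 (hMO w.2.1) _ (Oall.pow_mem ho _)).symm
    intro g hg
    exact ⟨⟨g, hPH hg⟩, le_fittingSubgroup hnil (show (⟨g, hPH hg⟩ : H) ∈ P.subgroupOf H from hg), rfl⟩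
  have hzb : ∀ r : ℕ, r.Prime → r ≠ 2 → ∀ g ∈ coreb r, f z * g = g * f z := by
    rintro r hr hr2 _ ⟨g, hg, rfl⟩
    haveI := Fact.mk hr
    obtain ⟨T, hT⟩ := hsyl r hr2
    obtain ⟨t, ht, hte⟩ : g ∈ (T : Subgroup H).map (f.subgroupMap H) := by
      have := pCore_le_sylow (T.mapSurjective (f.subgroupMap_surjective H)) hg
      rwa [Sylow.coe_mapSurjective] at this
    rw [← hte]
    show f z * f (t : X) = f (t : X) * f z
    rw [← map_mul, ← map_mul, hT t ht]
  have hMb_eq : Mb = ⁅Hb, Subgroup.zpowers (f z)⁆ := by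
    rw [hMb, hM, Subgroup.map_commutator, MonoidHom.map_zpowers]
  have hMbF : ∀ m ∈ Mb, ∀ r : (Nat.card Hb).primeFactors, ∀ c ∈ coreb r, c * m = m * c := by
    intro m hm r c hc
    have hr := Nat.prime_of_mem_primeFactors r.2
    by_cases h2 : (r : ℕ) = 2
    · have hcom : c * m * c⁻¹ * m⁻¹ ∈ Mb ⊓ coreb r := by
        have hcH : c ∈ Hb := Subgroup.map_subtype_le _ hc
        refine Subgroup.mem_inf.2 ⟨mul_mem (CoprimeAction.conj_mem (hHMb hcH) hm) (inv_mem hm), ?_⟩
        rw [show c * m * c⁻¹ * m⁻¹ = c * (m * c⁻¹ * m⁻¹) by group]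
        exact mul_mem hc ((hcbN r).conj_mem _ (inv_mem hc) m)
      obtain ⟨⟨g, hg, hge⟩, hcore⟩ := hcom
      rw [← hge, h2] at hcore
      have h1 : c * m * c⁻¹ * m⁻¹ = 1 := by
        rw [← hge]
        exact (QuotientGroup.eq_one_iff g).2 (hpre g hg hcore)
      exact mul_inv_eq_iff_eq_mul.1 (by rw [mul_inv_eq_one] at h1; exact h1)
    · rw [hMb_eq] at hm
      haveI := hcbN r
      exact Subgroup.mem_centralizer_iff.1 (commutator_le_centralizer_of_centralized
        (by rw [Subgroup.normalizer_eq_top]; exact le_top) (hzb r hr h2) hm) c hc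
  have hMR : M ≤ R := by
    refine hMgen.trans ((Subgroup.closure_le _).2 ?_)
    rintro g ⟨hgM, hg2⟩
    have hfH : f g ∈ Hb := Subgroup.mem_map_of_mem f (hMH hgM)
    have hfF : (⟨f g, hfH⟩ : Hb) ∈ fittingSubgroup Hb := by
      refine centralizer_fittingSubgroup_le ?_
      rw [fittingSubgroup_eq_iSup_pCore]
      refine Subgroup.mem_centralizer_iff.2 fun c hc => ?_
      refine Subgroup.mem_centralizer_singleton_iff.1
        ((iSup_le fun r d hd => Subgroup.mem_centralizer_singleton_iff.2 ?_ :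
          (⨆ r : (Nat.card Hb).primeFactors, pCore (r : ℕ) Hb) ≤
            Subgroup.centralizer {⟨f g, hfH⟩}) hc)
      exact Subtype.ext (hMbF _ (Subgroup.mem_map_of_mem f hgM) r _ ⟨d, hd, rfl⟩)
    obtain ⟨k, hk⟩ := hg2
    have hg2' : (⟨f g, hfH⟩ : Hb) ^ 2 ^ k = 1 := Subtype.ext (by
      show f g ^ 2 ^ k = 1
      rw [← map_pow, hk, map_one])
    exact hFmem (hpre g hgM ⟨_, mem_pCore_of_mem_fitting hfF ⟨k, hg2'⟩, rfl⟩) ⟨k, hk⟩
  have hHRD : H ≤ R ⊔ D := by
    calc H = M ⊔ (H ⊓ Subgroup.centralizer ((Subgroup.zpowers z : Subgroup X) : Set X)) :=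
          (CoprimeAction.commutator_sup_centralizer hzH (hcop H le_rfl z hzn)
            (Or.inl (CoprimeAction.isSolvable_zpowers z))).symm
      _ ≤ R ⊔ D := sup_le_sup hMR (inf_le_inf_left _
          (Subgroup.centralizer_le (Set.singleton_subset_iff.2 (Subgroup.mem_zpowers z))))
  have hxD : x ∈ Subgroup.normalizer (D : Set X) := by
    refine CoprimeAction.mem_normalizer_of_conj_mem fun g hg =>
      Subgroup.mem_inf.2 ⟨CoprimeAction.conj_mem hxH hg.1, ?_⟩
    rw [Subgroup.mem_centralizer_singleton_iff]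
    have h1 : Commute g z := Subgroup.mem_centralizer_singleton_iff.1 hg.2
    have h2 : Commute x z := Commute.self_pow x _
    exact ((h2.mul_left h1).mul_left h2.inv_left).eq
  have hDz : ∀ h ∈ D, z * h = h * z := fun h hh =>
    (Subgroup.mem_centralizer_singleton_iff.1 hh.2).symm
  rcases n with _ | m
  · -- the prime order case
    have hD0 : D = ⊥ := (Subgroup.eq_bot_iff_forall _).2 fun g hg => by
      refine hfixH g hg.1 ?_
      have h1 := hDz g hg
      rw [hz, pow_zero, pow_one] at h1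
      rw [h1, mul_inv_cancel_right]
    have hR0 : R = ⊥ := by
      by_contra hne
      haveI : Nontrivial R := (Subgroup.nontrivial_iff_ne_bot R).2 hne
      haveI := (hcoreP 2).center_nontrivial
      set Z := (Subgroup.center R).map R.subtype with hZ
      haveI : Z.Normal := normal_map_subtype R (Subgroup.center R)
      have hZH : Z ≤ H := (Subgroup.map_subtype_le _).trans (hcoreH 2)
      have hq2 : q ≠ 2 := by
        rintro rfl
        exact hne hcoreq
      have hZc : IsMulCommutative Z := ⟨⟨by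
        rintro ⟨_, a, ha, rfl⟩ ⟨_, b, hb, rfl⟩
        exact Subtype.ext (show (a : X) * (b : X) = (b : X) * (a : X) from
          congrArg Subtype.val ((Subgroup.mem_center_iff.1 hb) a))⟩⟩
      have hz0 := abelian_centralized hp2 hxn hfix (hrK 2 Nat.prime_two hq2.symm)
        (fun h => hp2 h.symm) ((hcoreP 2).to_le (Subgroup.map_subtype_le _)) hZc
        (by rw [Subgroup.normalizer_eq_top]; exact Subgroup.mem_top x)
        (fun g hg => hfaith g (hZH hg))
      obtain ⟨a, ha⟩ := exists_ne (1 : Subgroup.center R)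
      refine ha (Subtype.ext (Subtype.ext (hfixH _ (hZH ⟨_, a.2, rfl⟩) ?_)))
      have h1 := hz0 _ (⟨_, a.2, rfl⟩ : ((a : R) : X) ∈ Z)
      rw [pow_zero, pow_one] at h1
      show x * ((a : R) : X) * x⁻¹ = ((a : R) : X)
      rw [h1, mul_inv_cancel_right]
    rw [fitRes_zero, eq_bot_iff]
    exact hHRD.trans (by rw [hR0, hD0, sup_bot_eq])
  -- the general case
  set N := fitRes m D with hN
  have hND : N ≤ D := fitRes_le m D
  have hNbot : nilRes N = ⊥ := by
    rw [hN, ← fitRes_succ]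
    exact IH D inf_le_left hxD hDz
  haveI hNnil : Group.IsNilpotent N := by
    obtain ⟨k, hk⟩ := exists_lcs_eq N
    exact Subgroup.isNilpotent_of_lowerCentralSeries_eq_bot ((hk k le_rfl).trans hNbot)
  have hxN : x ∈ Subgroup.normalizer (N : Set X) :=
    le_normalizer_fitRes (A := Subgroup.zpowers x) (Subgroup.zpowers_le.2 hxD) m
      (Subgroup.mem_zpowers x)
  have hDN : D ≤ Subgroup.normalizer (N : Set X) := le_normalizer_fitRes Subgroup.le_normalizer m
  let nc : ℕ → Subgroup X := fun r => (pCore r N).map N.subtype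
  set A2 := R ⊔ nc 2 with hA2
  set No := ⨆ r : {r : ℕ // r.Prime ∧ r ≠ 2}, nc r.1 with hNo
  have hNle : N ≤ A2 ⊔ No := by
    calc N = (fittingSubgroup N).map N.subtype := by
          rw [fittingSubgroup_eq_top_iff.2 hNnil, ← MonoidHom.range_eq_map, Subgroup.range_subtype]
      _ ≤ _ := by
        rw [fittingSubgroup_eq_iSup_pCore, Subgroup.map_iSup]
        refine iSup_le fun r => ?_
        by_cases h : (r : ℕ) = 2
        · rw [h]; exact le_sup_of_le_left le_sup_right
        · exact le_sup_of_le_right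
            (le_iSup (fun r : {r : ℕ // r.Prime ∧ r ≠ 2} => nc r.1)
              ⟨r, Nat.prime_of_mem_primeFactors r.2, h⟩)
  have hNoA2 : No ≤ Subgroup.centralizer (A2 : Set X) := by
    refine iSup_le fun r => ?_
    haveI := Fact.mk r.2.1
    have hO : IsPGroup r.1 (nc r.1) := (isPGroup_pCore r.1 N).map _
    have hOD : nc r.1 ≤ D := (Subgroup.map_subtype_le _).trans hND
    rw [Subgroup.le_centralizer_iff]
    refine sup_le ?_ ?_
    · rw [← Subgroup.le_centralizer_iff]
      by_cases hrp : r.1 = p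
      · rw [hbot _ (hOD.trans inf_le_left) (hrp ▸ hO)]
        exact bot_le
      by_cases hq2 : q = 2
      · intro g _
        refine Subgroup.mem_centralizer_iff.2 fun a ha => ?_
        subst hq2
        rw [hR, hcoreq, SetLike.mem_coe, Subgroup.mem_bot] at ha
        rw [ha, one_mul, mul_one]
      refine centralizes_of_fixed hp2 hxn hfix (by exact_mod_cast hrK 2 Nat.prime_two (Ne.symm hq2))
        (hcoreP 2) (by rw [Subgroup.normalizer_eq_top]; exact Subgroup.mem_top x)
        (fun g hg => hfaith g (hcoreH 2 hg)) r.2.2 hrp hO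
        (le_normalizer_map_char (Subgroup.zpowers_le.2 hxN) (pCore r.1 N) (Subgroup.mem_zpowers x))
        (by rw [Subgroup.normalizer_eq_top]; exact le_top) (fun s hs => hDz s (hOD hs))
        fun g hg hgz s hs => ?_
      have hgD : g ∈ D := ⟨hcoreH 2 hg, Subgroup.mem_centralizer_singleton_iff.2 hgz.symm⟩
      have h1 : s * g * s⁻¹ * g⁻¹ ∈ nc r.1 ⊓ R := by
        refine Subgroup.mem_inf.2 ⟨?_, mul_mem (hRn.conj_mem _ hg s) (inv_mem hg)⟩
        rw [show s * g * s⁻¹ * g⁻¹ = s * (g * s⁻¹ * g⁻¹) by group]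
        exact mul_mem hs (CoprimeAction.conj_mem
          (le_normalizer_map_char hDN (pCore r.1 N) hgD) (inv_mem hs))
      rw [(IsPGroup.disjoint_of_ne r.1 2 r.2.2 _ _ hO (hcoreP 2)).eq_bot, Subgroup.mem_bot,
        mul_inv_eq_one, mul_inv_eq_iff_eq_mul] at h1
      exact h1
    · rintro _ ⟨a, ha, rfl⟩
      refine Subgroup.mem_centralizer_iff.2 ?_
      rintro _ ⟨b, hb, rfl⟩
      rw [← map_mul, ← map_mul, (commute_pCore_of_ne r.2.2 hb ha).eq]
  have hA2p : IsPGroup 2 A2 := (hcoreP 2).to_sup_of_normal_left ((isPGroup_pCore 2 N).map _)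
  haveI : Group.IsNilpotent A2 := hA2p.isNilpotent
  have hNoN : No ≤ N := iSup_le fun r => Subgroup.map_subtype_le _
  haveI : Group.IsNilpotent No := isNilpotent_of_le hNnil hNoN
  have hcomm : ∀ (a : A2) (b : No), Commute (A2.subtype a) (No.subtype b) := fun a b =>
    Subgroup.mem_centralizer_iff.1 (hNoA2 b.2) a a.2
  have hJ : Group.IsNilpotent (A2 ⊔ No : Subgroup X) := by
    rw [← Subgroup.range_subtype A2, ← Subgroup.range_subtype No,
      ← MonoidHom.noncommCoprod_range (comm := hcomm)]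
    exact Group.nilpotent_of_surjective _ (MonoidHom.rangeRestrict_surjective _)
  have hle : fitRes m H ≤ A2 ⊔ No := by
    intro g hg
    have h1 : QuotientGroup.mk' R g ∈ N.map (QuotientGroup.mk' R) := by
      rw [hN, map_fitRes]
      refine fitRes_mono m ?_ (map_fitRes (QuotientGroup.mk' R) m H ▸ Subgroup.mem_map_of_mem _ hg)
      refine (Subgroup.map_mono hHRD).trans ?_
      rw [Subgroup.map_sup, (Subgroup.map_eq_bot_iff R).2 (QuotientGroup.ker_mk' R).ge, bot_sup_eq]
    have h2 : g ∈ N ⊔ R := by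
      rw [← QuotientGroup.ker_mk' R, ← Subgroup.comap_map_eq]
      exact h1
    exact sup_le hNle (le_sup_of_le_left le_sup_left) h2
  rw [fitRes_succ, eq_bot_iff]
  obtain ⟨k, hk⟩ := (Subgroup.isNilpotent_iff_lowerCentralSeries _).1 hJ
  exact (nilRes_mono hle).trans ((nilRes_le_lcs _ k).trans hk.le)

end CfsgLib.ShultGross
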